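import Cfsg.Agent.Lib.TwoSizes.Basic
import Cfsg.Agent.S0588
import Cfsg.Prelude.Def_LieExceptional

/-!
# Three centralizer orders: the containments between the centralizers

The orders `a < b` with `a ∣ b` occur as a proper containment and no order is divisible by the other two.
-/

set_option autoImplicit false
set_option linter.style.haveILetI false
set_option linter.unusedSectionVars false

namespace Cfsg.Lib.RankThree

open Subgroup
open Cfsg.Lib.TwoSizes (PW)

variable {G : Type*} [Group G]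

/-- The centralizer of an element. -/
abbrev CG (g : G) : Subgroup G := centralizer ({g} : Set G)

/-- The order of the centralizer of an element. -/
noncomputable abbrev cd (g : G) : ℕ := Nat.card (CG g)

/-- The natural number `n` contains the full `p`-part of the group order. -/
def FullPart (G : Type*) (p n : ℕ) : Prop := p ^ (Nat.card G).factorization p ∣ n

/-- All elements of order prime to `p` in the centralizer of `x` are central in it. -/
def Cen (p : ℕ) (x : G) : Prop := ∀ y ∈ CG x, (orderOf y).Coprime p → CG x ≤ CG y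

theorem mem_CG {g x : G} : g ∈ CG x ↔ Commute g x := mem_centralizer_singleton_iff

theorem mem_CG_comm {g x : G} : g ∈ CG x ↔ x ∈ CG g :=
  ⟨fun h => mem_CG.2 (mem_CG.1 h).symm, fun h => mem_CG.2 (mem_CG.1 h).symm⟩

theorem CG_mul {x y : G} (hxy : Commute x y) (hc : (orderOf x).Coprime (orderOf y)) :
    CG (x * y) = CG x ⊓ CG y := by
  refine le_antisymm (fun g hg => ⟨?_, ?_⟩) fun g hg => mem_CG.2 ((mem_CG.1 hg.1).mul_right (mem_CG.1 hg.2))
  · exact mem_CG.2 (TwoSizes.commute_of_commute_mul hxy hc (mem_CG.1 hg))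
  · exact mem_CG.2 (TwoSizes.commute_of_commute_mul hxy.symm hc.symm (hxy.eq ▸ mem_CG.1 hg))

theorem mul_ne_one {x y : G} (hx : x ≠ 1) (hc : (orderOf x).Coprime (orderOf y)) : x * y ≠ 1 := fun h => by
  rw [eq_inv_of_mul_eq_one_right h, orderOf_inv, Nat.coprime_self, orderOf_eq_one_iff] at hc
  exact hx hc

theorem cd_conj (g x : G) : cd (g * x * g⁻¹) = cd x := by
  refine Nat.card_congr ((MulAut.conj g).toEquiv.symm.subtypeEquiv fun v => ?_)
  show v ∈ CG (g * x * g⁻¹) ↔ g⁻¹ * v * g ∈ CG x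
  rw [mem_CG, mem_CG]
  constructor
  · intro h
    calc g⁻¹ * v * g * x = g⁻¹ * (v * (g * x * g⁻¹)) * g := by group
      _ = _ := by rw [h.eq]; group
  · intro h
    calc v * (g * x * g⁻¹) = g * (g⁻¹ * v * g * x) * g⁻¹ := by group
      _ = _ := by rw [h.eq]; group

variable [Finite G]

theorem cd_dvd (g : G) : cd g ∣ Nat.card G := card_subgroup_dvd_card _

theorem cd_pos (g : G) : 0 < cd g := Nat.card_pos

theorem one_lt_cd {g : G} (hg : g ≠ 1) : 1 < cd g := by
  refine Finite.one_lt_card_iff_nontrivial.2 ⟨⟨g, mem_CG.2 (Commute.refl g)⟩, 1, fun h => hg ?_⟩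
  exact congrArg Subtype.val h

/-- The prime-power parts of an element. -/
theorem exists_part {g : G} (hg : g ≠ 1) :
    ∃ p : ℕ, p.Prime ∧ p ∣ orderOf g ∧ ∃ u, u ≠ 1 ∧ PW p u ∧ CG g ≤ CG u := by
  by_contra h
  refine hg (mem_bot.1 (TwoSizes.mem_of_parts (H := ⊥) fun t ht htn i hi => ?_))
  by_contra hne
  exact h ⟨t, ht, htn, g ^ i, fun e => hne (mem_bot.2 e), hi,
    TwoSizes.cent_mono_of_mem_zpowers (pow_mem (mem_zpowers g) i)⟩

theorem prime_dvd_cd {p : ℕ} (hp : p.Prime) {x : G} (hx : PW p x) (hx1 : x ≠ 1) : p ∣ cd x := by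
  obtain ⟨k, hk⟩ := hx
  obtain ⟨j, -, hj⟩ := (Nat.dvd_prime_pow hp).1 (orderOf_dvd_of_pow_eq_one hk)
  have h1 : orderOf x ∣ cd x := by
    have := orderOf_dvd_natCard (⟨x, mem_CG.2 (Commute.refl x)⟩ : CG x)
    rwa [← Subgroup.orderOf_coe] at this
  refine dvd_trans ?_ (hj ▸ h1)
  exact dvd_pow_self p fun h => hx1 (orderOf_eq_one_iff.1 (by rw [hj, h, pow_zero]))

theorem exists_central_full {p : ℕ} (hp : p.Prime) (hd : p ∣ Nat.card G) :
    ∃ z : G, z ≠ 1 ∧ PW p z ∧ FullPart G p (cd z) := by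
  haveI := Fact.mk hp
  obtain ⟨P⟩ : Nonempty (Sylow p G) := inferInstance
  haveI : Nontrivial (P : Subgroup G) := by
    rw [← Finite.one_lt_card_iff_nontrivial]
    exact lt_of_lt_of_le hp.one_lt (Nat.le_of_dvd Nat.card_pos (P.dvd_card_of_dvd_card hd))
  haveI := P.2.center_nontrivial
  obtain ⟨z, hz⟩ := exists_ne (1 : Subgroup.center (P : Subgroup G))
  refine ⟨((z : (P : Subgroup G)) : G), fun h => hz (Subtype.ext (Subtype.ext h)),
    TwoSizes.PW.of_isPGroup P.2 z.1.2, ?_⟩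
  rw [FullPart, ← P.card_eq_multiplicity]
  exact card_dvd_of_le fun a ha =>
    mem_CG.2 (congrArg Subtype.val (mem_center_iff.1 z.2 ⟨a, ha⟩))

theorem fullPart_of_not_dvd {p n : ℕ} (h : ¬ p ∣ Nat.card G) : FullPart G p n := by
  rw [FullPart, Nat.factorization_eq_zero_of_not_dvd h, pow_zero]
  exact one_dvd n

theorem eq_zero_of_fullPart_pow {p q k : ℕ} (hp : p.Prime) (hq : q.Prime) (hqp : q ≠ p)
    (h : FullPart G q (p ^ k)) : (Nat.card G).factorization q = 0 := by
  by_contra hne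
  exact hqp ((Nat.prime_dvd_prime_iff_eq hq hp).1 (hq.dvd_of_dvd_pow ((dvd_pow_self q hne).trans h)))

theorem fullPart_index {p : ℕ} (hp : p.Prime) {H : Subgroup G} :
    FullPart G p (Nat.card H) ↔ ¬ p ∣ H.index := by
  have hG : Nat.card G ≠ 0 := Nat.card_pos.ne'
  have hH : Nat.card H ≠ 0 := Nat.card_pos.ne'
  have hi : H.index ≠ 0 := Subgroup.index_ne_zero_of_finite
  have hmul : (Nat.card G).factorization p = (Nat.card H).factorization p + H.index.factorization p := by
    rw [← H.card_mul_index, Nat.factorization_mul hH hi, Finsupp.add_apply]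
  rw [FullPart, hp.pow_dvd_iff_le_factorization hH, hp.dvd_iff_one_le_factorization hi]
  omega

/-- Three centralizer orders with a proper containment between two of them. -/
structure Sizes (G : Type*) [Group G] (a b c : ℕ) : Prop where
  cases : ∀ g : G, g ≠ 1 → cd g = a ∨ cd g = b ∨ cd g = c
  burn : ∀ g : G, g ≠ 1 → ∀ p : ℕ, p.Prime → ∃ q : ℕ, q.Prime ∧ q ≠ p ∧ ¬ FullPart G q (cd g)
  dvd : a ∣ b
  lt : a < b
  c_ndvd_b : ¬ c ∣ b
  b_ndvd_c : ¬ b ∣ c
  c_ndvd_a : ¬ c ∣ a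
  ex_a : ∃ g : G, g ≠ 1 ∧ cd g = a
  ex_b : ∃ g : G, g ≠ 1 ∧ cd g = b
  ex_c : ∃ g : G, g ≠ 1 ∧ cd g = c

variable {a b c : ℕ}

theorem Sizes.a_ne_c (h : Sizes G a b c) : a ≠ c := fun e => h.c_ndvd_a (e ▸ dvd_rfl)

theorem Sizes.b_ne_c (h : Sizes G a b c) : b ≠ c := fun e => h.c_ndvd_b (e ▸ dvd_rfl)

theorem Sizes.one_lt_a (h : Sizes G a b c) : 1 < a := by
  obtain ⟨g, hg, rfl⟩ := h.ex_a
  exact one_lt_cd hg

/-- With `a ∣ c` the roles of `b` and `c` are symmetric. -/
theorem Sizes.swap (h : Sizes G a b c) (hac : a ∣ c) : Sizes G a c b where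
  cases g hg := by rcases h.cases g hg with e | e | e <;> simp [e]
  burn := h.burn
  dvd := hac
  lt := by
    obtain ⟨g, -, hg⟩ := h.ex_c
    exact lt_of_le_of_ne (Nat.le_of_dvd (hg ▸ cd_pos g) hac) h.a_ne_c
  c_ndvd_b := h.b_ndvd_c
  b_ndvd_c := h.c_ndvd_b
  c_ndvd_a e := h.b_ndvd_c (e.trans hac)
  ex_a := h.ex_a
  ex_b := h.ex_c
  ex_c := h.ex_b

/-- A containment is an equality or leads from the order `a` to one of the others. -/
theorem Sizes.of_le (h : Sizes G a b c) {g k : G} (hg : g ≠ 1) (hk : k ≠ 1) (hle : CG g ≤ CG k) :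
    CG g = CG k ∨ (cd g = a ∧ (cd k = b ∨ (cd k = c ∧ a ∣ c))) := by
  rcases eq_or_ne (cd g) (cd k) with e | e
  · exact Or.inl (Subgroup.eq_of_le_of_card_ge hle (le_of_eq e.symm))
  refine Or.inr ?_
  have hdvd : cd g ∣ cd k := Subgroup.card_dvd_of_le hle
  have hlt : cd g < cd k := lt_of_le_of_ne (Nat.le_of_dvd (cd_pos k) hdvd) e
  have := h.lt
  rcases h.cases g hg with hg' | hg' | hg' <;> rcases h.cases k hk with hk' | hk' | hk' <;>
    rw [hg', hk'] at hdvd hlt
  · omega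
  · exact ⟨hg', Or.inl hk'⟩
  · exact ⟨hg', Or.inr ⟨hk', hdvd⟩⟩
  · omega
  · omega
  · exact absurd hdvd h.b_ndvd_c
  · exact absurd hdvd h.c_ndvd_a
  · exact absurd hdvd h.c_ndvd_b
  · omega

theorem Sizes.eq_of_top (h : Sizes G a b c) {g k : G} (hg : g ≠ 1) (hk : k ≠ 1) (hle : CG g ≤ CG k)
    (htop : cd g = b ∨ cd g = c) : CG g = CG k := by
  rcases h.of_le hg hk hle with e | ⟨e, -⟩
  · exact e
  · exfalso
    have := h.lt
    have := h.a_ne_c
    omega

theorem Sizes.eq_of_bot (h : Sizes G a b c) {g k : G} (hg : g ≠ 1) (hk : k ≠ 1) (hle : CG g ≤ CG k)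
    (hbot : cd k = a) : CG g = CG k := by
  rcases h.of_le hg hk hle with e | ⟨-, e | ⟨e, -⟩⟩
  · exact e
  · exfalso; have := h.lt; omega
  · exfalso; have := h.a_ne_c; omega

theorem Sizes.full_cases (h : Sizes G a b c) {p : ℕ} (hp : p.Prime) : FullPart G p b ∨ FullPart G p c := by
  by_cases hd : p ∣ Nat.card G
  · obtain ⟨z, hz, -, hf⟩ := exists_central_full hp hd
    rcases h.cases z hz with e | e | e <;> rw [e] at hf
    · exact Or.inl (dvd_trans hf h.dvd)
    · exact Or.inl hf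
    · exact Or.inr hf
  · exact Or.inl (fullPart_of_not_dvd hd)

/-- Elements with a smallest centralizer have the property `Cen`. -/
theorem cen_of_min {p : ℕ} {x : G} (hx : x ≠ 1) (hxp : PW p x)
    (hmin : ∀ g : G, g ≠ 1 → CG g ≤ CG x → CG g = CG x) : Cen p x := by
  intro y hy hyp
  have hxy : Commute x y := (mem_CG.1 hy).symm
  obtain ⟨k, hk⟩ := hxp
  have hc : (orderOf x).Coprime (orderOf y) :=
    (Nat.Coprime.pow_left k hyp.symm).coprime_dvd_left (orderOf_dvd_of_pow_eq_one hk)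
  have h1 := CG_mul hxy hc
  have h2 := hmin _ (mul_ne_one hx hc) (h1 ▸ inf_le_left)
  rw [← h2, h1]
  exact inf_le_right

theorem Sizes.cen_of_a (h : Sizes G a b c) {p : ℕ} {x : G} (hx : x ≠ 1) (hxp : PW p x) (he : cd x = a) :
    Cen p x :=
  cen_of_min hx hxp fun _ hg hle => h.eq_of_bot hg hx hle he

theorem Sizes.cen_of_c (h : Sizes G a b c) (hac : ¬ a ∣ c) {p : ℕ} {x : G} (hx : x ≠ 1) (hxp : PW p x)
    (he : cd x = c) : Cen p x :=
  cen_of_min hx hxp fun g hg hle => by
    rcases h.of_le hg hx hle with e | ⟨-, e | ⟨-, e⟩⟩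
    · exact e
    · exact absurd (e.symm.trans he) h.b_ne_c
    · exact absurd e hac

theorem isNilpotent_of_cen {p : ℕ} (hp : p.Prime) {x : G} (h : Cen p x) : Group.IsNilpotent (CG x) := by
  haveI := Fact.mk hp
  have hq : IsPGroup p (CG x ⧸ center (CG x)) := by
    intro q
    induction q using QuotientGroup.induction_on with
    | _ v =>
      refine ⟨(orderOf v).factorization p, ?_⟩
      rw [← QuotientGroup.mk_pow, QuotientGroup.eq_one_iff]
      refine mem_center_iff.2 fun w => Subtype.ext ?_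
      have hcop : (orderOf ((v ^ p ^ (orderOf v).factorization p : CG x) : G)).Coprime p := by
        rw [Subgroup.orderOf_coe, orderOf_pow,
          Nat.gcd_eq_right (Nat.ordProj_dvd (orderOf v) p)]
        exact (Nat.coprime_ordCompl hp (orderOf_pos v).ne').symm
      exact (mem_CG.1 (h _ (v ^ p ^ (orderOf v).factorization p).2 hcop w.2)).eq
  haveI := hq.isNilpotent
  exact Group.of_quotient_center_nilpotent this

/-- If every element of prime-power order has the property `Cen`, the group is a CN-group. -/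
theorem isCNGroup_of_cen (h : ∀ p : ℕ, p.Prime → ∀ x : G, x ≠ 1 → PW p x → Cen p x) : Cfsg.IsCNGroup G := by
  intro g hg
  obtain ⟨p, hp, -, u, hu, hup, hle⟩ := exists_part hg
  haveI := isNilpotent_of_cen hp (h p hp u hu hup)
  exact Group.nilpotent_of_mulEquiv (Subgroup.subgroupOfEquivOfLe hle)

/-- An abelian CC-subgroup of order `c`, with all its consequences. -/
structure CCData (X : Subgroup G) (c : ℕ) : Prop where
  card : Nat.card X = c
  comm : ∀ u ∈ X, ∀ v ∈ X, Commute u v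
  cc : ∀ u ∈ X, u ≠ 1 → CG u = X
  hall : (Nat.card X).Coprime X.index

theorem CCData.conj_mem {X : Subgroup G} (hX : CCData X c) {q : ℕ} (hq : q.Prime) (hd : q ∣ c) {w : G}
    (hw : PW q w) : ∃ g : G, g * w * g⁻¹ ∈ X := by
  haveI := Fact.mk hq
  obtain ⟨P, hP⟩ := hw.isPGroup_zpowers.exists_le_sylow
  obtain ⟨Q⟩ : Nonempty (Sylow q X) := inferInstance
  have hQ : Nat.card ↥((Q : Subgroup X).map X.subtype) = q ^ (Nat.card G).factorization q := by
    rw [← Nat.card_congr ((Q : Subgroup X).equivMapOfInjective _ X.subtype_injective).toEquiv,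
      Q.card_eq_multiplicity, ← X.card_mul_index,
      Nat.factorization_mul Nat.card_pos.ne' Subgroup.index_ne_zero_of_finite, Finsupp.add_apply,
      Nat.factorization_eq_zero_of_not_dvd (n := X.index) fun h' =>
        hq.ne_one (Nat.eq_one_of_dvd_coprimes hX.hall (hX.card ▸ hd) h'), add_zero]
  let S : Sylow q G := Sylow.ofCard _ hQ
  obtain ⟨g, hg⟩ := MulAction.exists_smul_eq G P S
  have hmem : g * w * g⁻¹ ∈ X := by
    have h1 : g * w * g⁻¹ ∈ (S : Subgroup G) := by
      rw [← hg, Sylow.coe_subgroup_smul]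
      exact Subgroup.smul_mem_pointwise_smul w (MulAut.conj g) _ (hP (mem_zpowers w))
    obtain ⟨v, -, hv⟩ := h1
    exact hv ▸ v.2
  exact ⟨g, hmem⟩

theorem CCData.cd_eq_of_mem {X : Subgroup G} (hX : CCData X c) {g w : G} (hw : g * w * g⁻¹ ∈ X)
    (hw1 : w ≠ 1) : cd w = c := by
  rw [← cd_conj g w, cd, hX.cc _ hw fun e => hw1 (conj_eq_one_iff.1 e), hX.card]

theorem CCData.cd_eq {X : Subgroup G} (hX : CCData X c) {q : ℕ} (hq : q.Prime) (hd : q ∣ c) {w : G}
    (hw : PW q w) (hw1 : w ≠ 1) : cd w = c := by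
  obtain ⟨g, hg⟩ := hX.conj_mem hq hd hw
  exact hX.cd_eq_of_mem hg hw1

theorem CCData.full {X : Subgroup G} (hX : CCData X c) {q : ℕ} (hq : q.Prime) (hd : q ∣ c) :
    FullPart G q c := by
  rw [← hX.card, fullPart_index hq]
  exact fun h' => hq.ne_one (Nat.eq_one_of_dvd_coprimes hX.hall (hX.card ▸ hd) h')

/-- If the elements of order `c` of prime-power order have the property `Cen`, an abelian CC-subgroup has
order `c`. -/
theorem Sizes.exists_cc (h : Sizes G a b c)
    (hcen : ∀ p : ℕ, p.Prime → ∀ x : G, x ≠ 1 → PW p x → cd x = c → Cen p x) :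
    ∃ X : Subgroup G, CCData X c := by
  obtain ⟨g, hg, hgc⟩ := h.ex_c
  obtain ⟨p, hp, -, x, hx, hxp, hle⟩ := exists_part hg
  have hxc : cd x = c := by
    have := h.eq_of_top hg hx hle (Or.inr hgc)
    rw [cd, ← this]; exact hgc
  have hxcen := hcen p hp x hx hxp hxc
  obtain ⟨q, hq, hqp, y, hy, hy1, hyq⟩ :
      ∃ q : ℕ, q.Prime ∧ q ≠ p ∧ ∃ y, y ∈ CG x ∧ y ≠ 1 ∧ PW q y := by
    by_contra hno
    haveI := Fact.mk hp
    have hP : IsPGroup p (CG x) := by
      rw [IsPGroup.iff_orderOf]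
      intro v
      refine ⟨(orderOf v).primeFactorsList.length, Nat.eq_prime_pow_of_unique_prime_dvd (orderOf_pos v).ne'
        fun {d} hd hdv => ?_⟩
      by_contra hdp
      have hj : orderOf v ≠ 0 := (orderOf_pos v).ne'
      refine hno ⟨d, hd, hdp, ((v ^ (orderOf v / d) : CG x) : G), (v ^ (orderOf v / d)).2, fun e => ?_,
          ⟨1, ?_⟩⟩
      · have h1 := orderOf_dvd_of_pow_eq_one (n := orderOf v / d) (Subtype.ext e)
        exact absurd (Nat.le_of_dvd (Nat.div_pos (Nat.le_of_dvd (orderOf_pos v) hdv) hd.pos) h1)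
          (not_le.2 (Nat.div_lt_self (orderOf_pos v) hd.one_lt))
      · rw [pow_one, ← Subgroup.coe_pow, ← pow_mul, Nat.div_mul_cancel hdv, pow_orderOf_eq_one,
          OneMemClass.coe_one]
    obtain ⟨k, hk⟩ := IsPGroup.iff_card.mp hP
    rw [show Nat.card (CG x) = c from hxc] at hk
    obtain ⟨g', hg', hg'b⟩ := h.ex_b
    obtain ⟨r, hr, hrp, hnf⟩ := h.burn g' hg' p hp
    rw [hg'b] at hnf
    rcases h.full_cases hr with hf | hf
    · exact hnf hf
    · refine hnf ?_
      rw [FullPart, eq_zero_of_fullPart_pow hp hr hrp (hk ▸ hf), pow_zero]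
      exact one_dvd b
  have hxy : CG x = CG y :=
    h.eq_of_top hx hy1 (hxcen y hy (hyq.reg hq hp hqp)) (Or.inr hxc)
  have hycen := hcen q hq y hy1 hyq (by rw [cd, ← hxy]; exact hxc)
  have hparts : ∀ r : ℕ, r.Prime → ∀ u ∈ CG x, PW r u → CG x ≤ CG u := by
    intro r hr u hu hur
    by_cases hrp : r = p
    · rw [hxy] at hu ⊢
      exact hycen u hu (hur.reg hr hq (by rw [hrp]; exact hqp.symm))
    · exact hxcen u hu (hur.reg hr hp hrp)
  have hcomm : ∀ u ∈ CG x, ∀ v ∈ CG x, Commute u v := fun u hu v hv => by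
    refine mem_CG.1 (TwoSizes.mem_of_parts (H := CG v) fun t ht _ i hi => ?_)
    exact mem_CG_comm.1 (hparts t ht _ (pow_mem hu i) hi hv)
  have hcc : ∀ u ∈ CG x, u ≠ 1 → CG u = CG x := fun u hu hu1 =>
    (h.eq_of_top hx hu1 (fun v hv => mem_CG.2 (hcomm v hv u hu)) (Or.inr hxc)).symm
  exact ⟨CG x, hxc, hcomm, hcc, Cfsg.Agent.S0588.result (CG x) fun u hu hu1 => (hcc u hu hu1).le⟩

end Cfsg.Lib.RankThree
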