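import Cfsg.Agent.Lib.Char.Burnside
import Cfsg.Agent.Lib.Char.Constituents
import Cfsg.Agent.Lib.Perm.PermCharacter

/-!
# An isolation criterion from a complementary abelian CC-subgroup

Let `X` be an abelian subgroup of a simple group `G` containing the centralizer of each of its non-identity
elements, and `z` an element whose class has size `#X`, with `#C(z)` prime to `#X`. Then `z` commutes with no
other conjugate: every non-principal constituent of the permutation character on the class of `z` has degree
prime to `#X`, so vanishes at `z`.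
-/

set_option autoImplicit false
set_option linter.style.haveILetI false
set_option linter.unusedSectionVars false

namespace Cfsg.Lib.RankThree

open Cfsg Cfsg.Lib.Char Subgroup
open scoped ComplexConjugate

universe u

variable {G : Type u} [Group G] [Fintype G]

/-- A non-principal irreducible character of a simple group vanishes at an element whose class size is prime
to its degree. -/
theorem irr_apply_eq_zero [IsSimpleGroup G] (hnc : ¬ IsMulCommutative G) {χ : G → ℂ}
    (hχ : IsIrrCharacter G χ) (hne : χ ≠ fun _ => 1) {z : G} (hz : z ≠ 1) {d : ℕ} (hd : χ 1 = d)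
    (hcop : d.Coprime (centralizer ({z} : Set G)).index) : χ z = 0 := by
  classical
  by_contra h0
  obtain ⟨n, ρ, hρ, rfl⟩ := hχ
  rw [Representation.char_one] at hd
  have hd' : Module.finrank ℂ (Fin n → ℂ) = d := by exact_mod_cast hd
  have hs : z ∈ scalarSubgroup ρ := (norm_character_eq_iff ρ z).mp
    ((character_zero_or_norm ρ z (by rw [card_classFinset, hd']; exact hcop)).resolve_left h0)
  have htop : scalarSubgroup ρ = ⊤ :=
    (Subgroup.Normal.eq_bot_or_eq_top (scalarSubgroup_normal ρ)).resolve_left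
      fun h => hz (by rw [h, Subgroup.mem_bot] at hs; exact hs)
  refine hnc ⟨⟨fun a b => ?_⟩⟩
  rcases Subgroup.Normal.eq_bot_or_eq_top (inferInstance : (MonoidHom.ker ρ).Normal) with hker | hker
  · apply (MonoidHom.ker_eq_bot_iff (f := ρ)).mp hker
    obtain ⟨c, hc⟩ : a ∈ scalarSubgroup ρ := htop ▸ Subgroup.mem_top a
    rw [map_mul, map_mul, hc]
    ext x
    simp
  · refine absurd ?_ hne
    have htriv : ∀ x, ρ x = 1 := fun x => MonoidHom.mem_ker.mp (hker ▸ Subgroup.mem_top x)
    have hirr := classInner_irreducible_self ρ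
    have hc : ρ.character = fun _ => (n : ℂ) := funext fun x => by
      simp [Representation.character, htriv]
    rw [hc] at hirr
    simp [classInner, ← Nat.card_eq_fintype_card] at hirr
    rw [inv_mul_cancel_left₀ card_cast_ne_zero] at hirr
    have hn : n = 1 := by
      have h' : ((n * n : ℕ) : ℂ) = ((1 : ℕ) : ℂ) := by push_cast; exact hirr
      exact (mul_eq_one.mp (Nat.cast_inj.mp h')).1
    rw [hc, hn]
    simp

/-- The mass of a class function on the conjugates of a TI subgroup, without the identity. -/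
theorem ti_bound (X : Subgroup G) [Fintype X]
    (hTI : ∀ g u : G, u ∈ X → u ≠ 1 → g * u * g⁻¹ ∈ X → g ∈ normalizer (X : Set G))
    {F : G → ℂ} (hF : IsClassFunction G F) (hF1 : F 1 = 0) :
    (Nat.card G : ℝ) * ∑ u : X, Complex.normSq (F u) ≤
      (Nat.card (normalizer (X : Set G)) : ℝ) * ∑ g : G, Complex.normSq (F g) := by
  classical
  set N := normalizer (X : Set G) with hN
  set S : Finset (G × X) := (Finset.univ : Finset (G × X)).filter fun p => (p.2 : G) ≠ 1 with hS
  let cj : G × X → G := fun p => p.1 * (p.2 : G) * p.1⁻¹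
  have hfib : ∀ w : G, (S.filter fun p => cj p = w).card ≤ Nat.card N := by
    intro w
    rcases (S.filter fun p => cj p = w).eq_empty_or_nonempty with h | ⟨⟨g₀, u₀⟩, h₀⟩
    · rw [h, Finset.card_empty]; exact Nat.zero_le _
    obtain ⟨h₀S, h₀w⟩ := Finset.mem_filter.1 h₀
    have h₀1 : (u₀ : G) ≠ 1 := (Finset.mem_filter.1 h₀S).2
    have hmem : ∀ p ∈ S.filter fun p => cj p = w, g₀⁻¹ * p.1 ∈ N := by
      rintro ⟨g, u⟩ hp
      obtain ⟨hpS, hpw⟩ := Finset.mem_filter.1 hp
      refine hTI _ u u.2 (Finset.mem_filter.1 hpS).2 ?_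
      have e : g * (u : G) * g⁻¹ = g₀ * (u₀ : G) * g₀⁻¹ := hpw.trans h₀w.symm
      have : g₀⁻¹ * g * (u : G) * (g₀⁻¹ * g)⁻¹ = (u₀ : G) := by
        rw [show g₀⁻¹ * g * (u : G) * (g₀⁻¹ * g)⁻¹ = g₀⁻¹ * (g * (u : G) * g⁻¹) * g₀ by group, e]
        group
      rw [this]
      exact u₀.2
    calc (S.filter fun p => cj p = w).card
        ≤ ((Finset.univ : Finset N).image fun n : N => ((n : G))).card := by
          refine Finset.card_le_card_of_injOn (fun p => g₀⁻¹ * p.1) (fun p hp => ?_) ?_
          · exact Finset.mem_image.2 ⟨⟨_, hmem p hp⟩, Finset.mem_univ _, rfl⟩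
          · rintro ⟨g, u⟩ hp ⟨g', u'⟩ hp' e
            obtain rfl : g = g' := mul_left_cancel e
            have h1 := (Finset.mem_filter.1 hp).2.trans (Finset.mem_filter.1 hp').2.symm
            exact Prod.ext rfl (Subtype.ext (mul_left_cancel (mul_right_cancel h1)))
      _ ≤ Nat.card N := by
          rw [Nat.card_eq_fintype_card, ← Finset.card_univ]; exact Finset.card_image_le
  have hconj : ∀ p : G × X, Complex.normSq (F (cj p)) = Complex.normSq (F p.2) := fun p => by
    simp only [cj]; rw [hF]
  calc (Nat.card G : ℝ) * ∑ u : X, Complex.normSq (F u)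
      = ∑ p : G × X, Complex.normSq (F p.2) := by
        rw [Fintype.sum_prod_type, Nat.card_eq_fintype_card]
        show _ = ∑ _x : G, ∑ u : X, Complex.normSq (F u)
        rw [Finset.sum_const, Finset.card_univ, nsmul_eq_mul]
    _ = ∑ p ∈ S, Complex.normSq (F (cj p)) := by
        rw [hS, Finset.sum_filter]
        refine Finset.sum_congr rfl fun p _ => ?_
        by_cases h : (p.2 : G) = 1
        · rw [if_neg (not_not.2 h), h, hF1, map_zero]
        · rw [if_pos h, hconj]
    _ = ∑ w : G, ∑ p ∈ S.filter (fun p => cj p = w), Complex.normSq (F (cj p)) :=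
        (Finset.sum_fiberwise S cj _).symm
    _ ≤ ∑ w : G, (Nat.card N : ℝ) * Complex.normSq (F w) := by
        refine Finset.sum_le_sum fun w _ => ?_
        rw [Finset.sum_congr rfl (g := fun _ => Complex.normSq (F w)) fun p hp => by
          rw [(Finset.mem_filter.1 hp).2], Finset.sum_const, nsmul_eq_mul]
        exact mul_le_mul_of_nonneg_right (by exact_mod_cast hfib w) (Complex.normSq_nonneg _)
    _ = _ := by rw [Finset.mul_sum]

theorem classInner_self_normSq {A : Type u} [Group A] [Fintype A] (φ : A → ℂ) :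
    (Nat.card A : ℂ) * classInner φ φ = ((∑ a : A, Complex.normSq (φ a) : ℝ) : ℂ) := by
  rw [classInner, ← mul_assoc, mul_inv_cancel₀ card_cast_ne_zero, one_mul, Complex.ofReal_sum]
  exact Finset.sum_congr rfl fun a _ => Complex.mul_conj (φ a)

variable [IsSimpleGroup G]

/-- An element whose class complements an abelian CC-subgroup commutes with no other conjugate. -/
theorem conj_eq_of_commute (hnc : ¬ IsMulCommutative G) (X : Subgroup G)
    (hab : ∀ a ∈ X, ∀ b ∈ X, Commute a b)
    (hcc : ∀ u ∈ X, u ≠ 1 → centralizer ({u} : Set G) = X)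
    (hX : (Nat.card X).Coprime X.index) {z : G} (hz : z ≠ 1)
    (hidx : (centralizer ({z} : Set G)).index = Nat.card X)
    (hcop : (Nat.card (centralizer ({z} : Set G))).Coprime (Nat.card X))
    (g : G) (hg : Commute z (g * z * g⁻¹)) : g * z * g⁻¹ = z := by
  classical
  haveI : Fintype X := Fintype.ofFinite X
  set K := centralizer ({z} : Set G) with hK
  haveI : Fintype (G ⧸ K) := Fintype.ofFinite _
  set π := (permRep ℂ G (G ⧸ K)).character with hπ
  have hfix : π = fun g : G => (Nat.card (MulAction.fixedBy (G ⧸ K) g) : ℂ) :=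
    Cfsg.Agent.PermCharacter.character_permRep (G ⧸ K)
  have hπch : IsCharacter G π := isCharacter_character _
  have hΩ : Nat.card (G ⧸ K) = Nat.card X := by rw [← Subgroup.index_eq_card, hidx]
  have hπ1 : π 1 = (Nat.card X : ℂ) := by
    rw [hfix, ← hΩ]
    simp only
    norm_cast
    exact Nat.card_congr (Equiv.subtypeUnivEquiv fun q => one_smul G q)
  -- `X` acts regularly
  have hπX : ∀ u : X, u ≠ 1 → π u = 0 := by
    intro u hu
    have hemp : IsEmpty (MulAction.fixedBy (G ⧸ K) (u : G)) := ⟨fun ⟨q, hq⟩ => by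
      induction q using QuotientGroup.induction_on with
      | _ h =>
        have hk : h⁻¹ * (u : G) * h ∈ K := by
          have h1 : QuotientGroup.mk ((u : G) * h) = (QuotientGroup.mk h : G ⧸ K) := hq
          have h2 := inv_mem ((QuotientGroup.eq).1 h1)
          rw [show (((u : G) * h)⁻¹ * h)⁻¹ = h⁻¹ * (u : G) * h by group] at h2
          exact h2
        have h3 : orderOf (u : G) ∣ Nat.card K := by
          have h5 : orderOf (h⁻¹ * (u : G) * h) ∣ Nat.card K := by
            have h6 := (Subgroup.orderOf_coe (⟨_, hk⟩ : K)).symm ▸ orderOf_dvd_natCard (⟨_, hk⟩ : K)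
            exact h6
          rwa [show h⁻¹ * (u : G) * h = MulAut.conj h⁻¹ (u : G) by simp,
            MulEquiv.orderOf_eq] at h5
        have h4 : orderOf (u : G) ∣ Nat.card X := by
          rw [Subgroup.orderOf_coe]; exact orderOf_dvd_natCard u
        exact hu (Subtype.ext (orderOf_eq_one_iff.1
          (Nat.eq_one_of_dvd_coprimes hcop h3 h4)))⟩
    rw [hfix]
    simp only
    rw [Nat.card_of_isEmpty, Nat.cast_zero]
  -- multiplicities
  let res : (G → ℂ) → X → ℂ := fun F u => F u
  have hres : ∀ F : G → ℂ, IsCharacter G F → IsCharacter X (res F) := fun F hF => hF.comp X.subtype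
  choose m hm using fun (χ : IrrCharacter G) (l : IrrCharacter X) =>
    (hres _ χ.2.isCharacter).exists_nat_classInner l.2.isCharacter
  choose c hc using fun χ : IrrCharacter G => hπch.exists_nat_classInner χ.2.isCharacter
  have hπeq : π = ∑ χ : IrrCharacter G, (c χ : ℂ) • (χ : G → ℂ) :=
    (eq_sum_classInner hπch.isClassFunction).trans (Finset.sum_congr rfl fun χ _ => by rw [hc χ])
  have hlin : ∀ l : IrrCharacter X, (l : X → ℂ) 1 = 1 := fun l =>
    degree_eq_one_of_comm (fun a b => Subtype.ext (hab (a : G) a.2 (b : G) b.2).eq) l.2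
  have hsum1 : ∀ l : IrrCharacter X, ∑ χ : IrrCharacter G, c χ * m χ l = 1 := by
    intro l
    have h1 : classInner (res π) (l : X → ℂ) = 1 := by
      rw [classInner, Finset.sum_eq_single (1 : X)
        (fun u _ hu => by show π u * _ = 0; rw [hπX u hu, zero_mul]) (by simp)]
      show _ * (π ((1 : X) : G) * _) = 1
      rw [OneMemClass.coe_one, hπ1, hlin l, map_one, mul_one, inv_mul_cancel₀ card_cast_ne_zero]
    have h2 : res π = ∑ χ : IrrCharacter G, (c χ : ℂ) • res (χ : G → ℂ) := by
      funext u
      show π u = _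
      rw [hπeq, Finset.sum_apply, Finset.sum_apply]
      rfl
    rw [h2, classInner_sum_left] at h1
    simp only [classInner_smul_left, hm] at h1
    exact_mod_cast h1
  let χ₀ : IrrCharacter G := ⟨fun _ => 1, isIrrCharacter_one⟩
  let l₀ : IrrCharacter X := ⟨fun _ => 1, isIrrCharacter_one⟩
  have hc0 : c χ₀ = 1 := by
    have h1 : classInner π (fun _ => (1 : ℂ)) = 1 := Cfsg.Agent.PermCharacter.classInner_one (G ⧸ K)
    have h2 := (hc χ₀).symm.trans h1
    exact_mod_cast h2
  have hm0 : m χ₀ l₀ = 1 := by
    have h1 := hm χ₀ l₀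
    rw [show res (χ₀ : G → ℂ) = (l₀ : X → ℂ) from rfl, classInner_irr_self l₀.2] at h1
    exact_mod_cast h1.symm
  have hle1 : ∀ χ, c χ ≠ 0 → ∀ l, m χ l ≤ 1 := fun χ hχ l => by
    have h1 : c χ * m χ l ≤ 1 := hsum1 l ▸
      Finset.single_le_sum (f := fun χ => c χ * m χ l) (fun _ _ => Nat.zero_le _) (Finset.mem_univ χ)
    exact le_trans (Nat.le_mul_of_pos_left _ (Nat.pos_of_ne_zero hχ)) h1
  have hdisj : ∀ χ ψ, χ ≠ ψ → c χ ≠ 0 → c ψ ≠ 0 → ∀ l, m χ l = 0 ∨ m ψ l = 0 := by
    intro χ ψ hne hχ hψ l
    by_contra h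
    push Not at h
    have h1 : c χ * m χ l + c ψ * m ψ l ≤ 1 := by
      rw [← hsum1 l, ← Finset.sum_pair hne (f := fun χ => c χ * m χ l)]
      exact Finset.sum_le_sum_of_subset (Finset.subset_univ _)
    have := Nat.mul_pos (Nat.pos_of_ne_zero hχ) (Nat.pos_of_ne_zero h.1)
    have := Nat.mul_pos (Nat.pos_of_ne_zero hψ) (Nat.pos_of_ne_zero h.2)
    omega
  choose d hd0 hd using fun χ : IrrCharacter G => χ.2.exists_degree
  have hdsum : ∀ χ, d χ = ∑ l : IrrCharacter X, m χ l := by
    intro χ
    have h1 := congrFun (eq_sum_classInner (hres _ χ.2.isCharacter).isClassFunction) 1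
    simp only [Finset.sum_apply, Pi.smul_apply, smul_eq_mul, hlin, mul_one, hm] at h1
    rw [show res (χ : G → ℂ) 1 = (d χ : ℂ) from hd χ] at h1
    exact_mod_cast h1
  set N := normalizer (X : Set G) with hN
  set e := X.relIndex N with he
  have hXN : X ≤ N := le_normalizer
  have hecop : (Nat.card X).Coprime e :=
    hX.coprime_dvd_right (Subgroup.relIndex_dvd_index_of_le hXN)
  have hNcard : Nat.card N = e * Nat.card X := (by
    have h1 := Subgroup.relIndex_mul_relIndex ⊥ X N bot_le hXN
    rw [Subgroup.relIndex_bot_left, Subgroup.relIndex_bot_left] at h1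
    rw [← h1, mul_comm])
  have hnmem : ∀ n ∈ N, ∀ u : G, u ∈ X → n * u * n⁻¹ ∈ X := fun n hn u hu => (mem_normalizer_iff.1 hn u).1 hu
  -- every non-principal constituent has degree at least `e`
  have hde : ∀ χ, χ ≠ χ₀ → c χ ≠ 0 → e ≤ d χ := by
    intro χ hne hχ
    obtain ⟨l, hl⟩ : ∃ l, m χ l ≠ 0 := by
      by_contra h
      push Not at h
      have := hdsum χ
      rw [Finset.sum_eq_zero fun l _ => h l] at this
      exact absurd this (hd0 χ).ne'
    have hl0 : l ≠ l₀ := fun h => by
      rcases hdisj χ χ₀ hne hχ (by rw [hc0]; exact one_ne_zero) l₀ with h' | h'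
      · exact hl (h ▸ h')
      · rw [hm0] at h'; exact one_ne_zero h'
    obtain ⟨f, hf⟩ := exists_hom_of_degree_one l.2.isCharacter (hlin l)
    have cval : ∀ (n : N) (u : X), (n : G) * (u : G) * (n : G)⁻¹ ∈ X := fun n u => hnmem n n.2 u u.2
    let σ : N → X ≃* X := fun n =>
      { toFun := fun u => ⟨_, cval n u⟩
        invFun := fun u => ⟨(n : G)⁻¹ * (u : G) * (n : G), by
          simpa using hnmem _ (inv_mem n.2) _ u.2⟩
        left_inv := fun u => Subtype.ext (by
          show (n : G)⁻¹ * ((n : G) * (u : G) * (n : G)⁻¹) * (n : G) = u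
          group)
        right_inv := fun u => Subtype.ext (by
          show (n : G) * ((n : G)⁻¹ * (u : G) * (n : G)) * (n : G)⁻¹ = u
          group)
        map_mul' := fun a b => Subtype.ext (by
          show (n : G) * ((a : G) * b) * (n : G)⁻¹ =
            ((n : G) * (a : G) * (n : G)⁻¹) * ((n : G) * (b : G) * (n : G)⁻¹)
          group) }
    have hirr : ∀ n : N, IsIrrCharacter X (fun u => (l : X → ℂ) (σ n u)) := fun n =>
      isIrrCharacter_of_degree_one (l.2.isCharacter.comp (σ n).toMonoidHom) (by
        show (l : X → ℂ) (σ n 1) = 1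
        rw [map_one]; exact hlin l)
    let L : N → IrrCharacter X := fun n => ⟨_, hirr n⟩
    have hLm : ∀ n, m χ (L n) ≠ 0 := by
      intro n h
      apply hl
      have h1 := hm χ (L n)
      rw [h, Nat.cast_zero, classInner] at h1
      have h2 := hm χ l
      rw [classInner] at h2
      have h3 : ∑ u : X, res (χ : G → ℂ) u * conj ((L n : X → ℂ) u) =
          ∑ u : X, res (χ : G → ℂ) u * conj ((l : X → ℂ) u) := by
        rw [← (σ n).toEquiv.sum_comp fun u => res (χ : G → ℂ) u * conj ((l : X → ℂ) u)]
        refine Finset.sum_congr rfl fun u _ => ?_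
        show _ = (χ : G → ℂ) ((n : G) * (u : G) * (n : G)⁻¹) * _
        rw [χ.2.isClassFunction]
        rfl
      rw [h3, h2] at h1
      exact_mod_cast h1
    have hstab : ∀ n : N, (n : G) ∉ X → ∃ u, f (σ n u) ≠ f u := by
      intro n hn
      by_contra h
      push Not at h
      apply hl0
      have hsurj : Function.Surjective fun u : X => σ n u * u⁻¹ := by
        refine Finite.injective_iff_surjective.1 fun a b hab' => ?_
        by_contra hne'
        have hw : σ n (b⁻¹ * a) = b⁻¹ * a := by
          have h1 : σ n a * a⁻¹ = σ n b * b⁻¹ := hab'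
          rw [map_mul, map_inv]
          calc (σ n b)⁻¹ * σ n a = (σ n b)⁻¹ * (σ n a * a⁻¹) * a := by group
            _ = b⁻¹ * a := by rw [h1]; group
        have hw1 : ((b⁻¹ * a : X) : G) ≠ 1 := fun e' =>
          hne' (eq_of_inv_mul_eq_one (Subtype.ext e')).symm
        apply hn
        rw [← hcc _ (b⁻¹ * a).2 hw1, mem_centralizer_singleton_iff]
        exact mul_inv_eq_iff_eq_mul.1 (congrArg Subtype.val hw)
      refine Subtype.ext (funext fun v => ?_)
      obtain ⟨u, rfl⟩ := hsurj v
      show (l : X → ℂ) (σ n u * u⁻¹) = 1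
      rw [congrFun hf, map_mul, map_inv, h u, mul_inv_cancel, Units.val_one]
    have hinj : Function.Injective fun q : N ⧸ X.subgroupOf N => L q.out := by
      intro q q' hqq
      have hval : ∀ u : X, f (σ q.out u) = f (σ q'.out u) := fun u => by
        have := congrFun (congrArg Subtype.val hqq) u
        rw [show (L q.out : X → ℂ) u = (l : X → ℂ) (σ q.out u) from rfl, congrFun hf,
          show (L q'.out : X → ℂ) u = (l : X → ℂ) (σ q'.out u) from rfl, congrFun hf] at this
        exact Units.ext this
      have hmem : ((q.out * q'.out⁻¹ : N) : G) ∈ X := by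
        by_contra hn
        obtain ⟨u, hu⟩ := hstab _ hn
        apply hu
        have h1 := hval ((σ q'.out).symm u)
        rw [MulEquiv.apply_symm_apply] at h1
        rw [← h1]
        congr 1
        refine Subtype.ext ?_
        show ((q.out * q'.out⁻¹ : N) : G) * u * ((q.out * q'.out⁻¹ : N) : G)⁻¹ =
          (q.out : G) * ((q'.out : G)⁻¹ * u * (q'.out : G)) * (q.out : G)⁻¹
        push_cast
        group
      rw [← QuotientGroup.out_eq' q, ← QuotientGroup.out_eq' q', QuotientGroup.eq, mem_subgroupOf]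
      have := hnmem _ (inv_mem q.out.2) _ (inv_mem hmem)
      push_cast at this ⊢
      convert this using 1
      group
    calc e = Nat.card (N ⧸ X.subgroupOf N) := rfl
      _ = (Finset.univ.image fun q : N ⧸ X.subgroupOf N => L q.out).card := by
          rw [Finset.card_image_of_injective _ hinj, Finset.card_univ, Nat.card_eq_fintype_card]
      _ ≤ ∑ l ∈ Finset.univ.image (fun q : N ⧸ X.subgroupOf N => L q.out), m χ l := by
          rw [Finset.card_eq_sum_ones]
          refine Finset.sum_le_sum fun l' hl' => ?_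
          obtain ⟨q, -, rfl⟩ := Finset.mem_image.1 hl'
          exact Nat.one_le_iff_ne_zero.2 (hLm _)
      _ ≤ d χ := by rw [hdsum]; exact Finset.sum_le_sum_of_subset (Finset.subset_univ _)
  -- degrees are prime to `#X`
  have hdcop : ∀ χ, χ ≠ χ₀ → c χ ≠ 0 → (d χ).Coprime (Nat.card X) := by
    intro χ hne hχ
    by_cases hex : ∃ ψ, ψ ≠ χ₀ ∧ ψ ≠ χ ∧ c ψ ≠ 0
    · obtain ⟨ψ, hψ0, hψne, hψ⟩ := hex
      have hie : d χ = e := by
        set F : G → ℂ := (d ψ : ℂ) • (χ : G → ℂ) + (-(d χ : ℂ)) • (ψ : G → ℂ) with hF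
        have hFc : IsClassFunction G F := fun a b => by
          simp only [hF, Pi.add_apply, Pi.smul_apply, χ.2.isClassFunction a b, ψ.2.isClassFunction a b]
        have hF1 : F 1 = 0 := by
          simp only [hF, Pi.add_apply, Pi.smul_apply, smul_eq_mul, hd]
          ring
        have hG1 : classInner F F = ((d ψ ^ 2 + d χ ^ 2 : ℕ) : ℂ) := by
          rw [hF]
          simp only [classInner_add_left, classInner_add_right, classInner_smul_left, classInner_smul_right,
            classInner_irr_self χ.2, classInner_irr_self ψ.2,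
            classInner_irr_ne χ.2 ψ.2 (fun h => hψne (Subtype.ext h).symm),
            classInner_irr_ne ψ.2 χ.2 (fun h => hψne (Subtype.ext h)), map_natCast, map_neg]
          push_cast
          ring
        have hin : ∀ a b : IrrCharacter G, classInner (res (a : G → ℂ)) (res (b : G → ℂ)) =
            ((∑ l : IrrCharacter X, m a l * m b l : ℕ) : ℂ) := fun a b => by
          rw [classInner_eq_sum (hres _ a.2.isCharacter).isClassFunction]
          simp only [hm, map_natCast, Nat.cast_sum, Nat.cast_mul]
        have hsq : ∀ a, c a ≠ 0 → ∑ l : IrrCharacter X, m a l * m a l = d a := fun a ha => by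
          rw [hdsum]
          refine Finset.sum_congr rfl fun l _ => ?_
          have := hle1 a ha l
          interval_cases (m a l) <;> rfl
        have hzero : ∀ a b, a ≠ b → c a ≠ 0 → c b ≠ 0 → ∑ l : IrrCharacter X, m a l * m b l = 0 :=
          fun a b hab' ha hb => Finset.sum_eq_zero fun l _ => by
            rcases hdisj a b hab' ha hb l with h | h <;> simp [h]
        have hX1 : classInner (res F) (res F) = ((d ψ ^ 2 * d χ + d χ ^ 2 * d ψ : ℕ) : ℂ) := by
          rw [show res F = (d ψ : ℂ) • res (χ : G → ℂ) + (-(d χ : ℂ)) • res (ψ : G → ℂ) from rfl]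
          simp only [classInner_add_left, classInner_add_right, classInner_smul_left, classInner_smul_right,
            hin, hsq χ hχ, hsq ψ hψ, hzero χ ψ (Ne.symm hψne) hχ hψ, hzero ψ χ hψne hψ hχ, map_natCast,
            map_neg]
          push_cast
          ring
        have hTI : ∀ g u : G, u ∈ X → u ≠ 1 → g * u * g⁻¹ ∈ X → g ∈ normalizer (X : Set G) := by
          intro g u hu hu1 hg'
          have h1 := hcc u hu hu1
          have h2 := hcc _ hg' (fun h => hu1 (conj_eq_one_iff.1 h))
          refine mem_normalizer_iff.2 fun v => ?_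
          constructor
          · intro hv
            rw [← h2, mem_centralizer_singleton_iff]
            have := mem_centralizer_singleton_iff.1 (h1 ▸ hv : v ∈ centralizer ({u} : Set G))
            calc g * v * g⁻¹ * (g * u * g⁻¹) = g * (v * u) * g⁻¹ := by group
              _ = _ := by rw [this]; group
          · intro hv
            rw [← h1, mem_centralizer_singleton_iff]
            have := mem_centralizer_singleton_iff.1 (h2 ▸ hv : g * v * g⁻¹ ∈ centralizer ({g * u * g⁻¹} : Set G))
            calc v * u = g⁻¹ * (g * v * g⁻¹ * (g * u * g⁻¹)) * g := by group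
              _ = _ := by rw [this]; group
        have hb := ti_bound X hTI hFc hF1
        have hb1 : ((∑ g : G, Complex.normSq (F g) : ℝ)) = Nat.card G * (d ψ ^ 2 + d χ ^ 2 : ℕ) := by
          have := classInner_self_normSq F
          rw [hG1] at this
          exact_mod_cast this.symm
        have hb2 : ((∑ u : X, Complex.normSq (F u) : ℝ)) = Nat.card X * (d ψ ^ 2 * d χ + d χ ^ 2 * d ψ : ℕ) := by
          have := classInner_self_normSq (res F)
          rw [hX1] at this
          exact_mod_cast this.symm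
        rw [hb1, hb2, hNcard] at hb
        have hb' : Nat.card G * Nat.card X * (d ψ ^ 2 * d χ + d χ ^ 2 * d ψ) ≤
            Nat.card G * Nat.card X * (e * (d ψ ^ 2 + d χ ^ 2)) := by
          have h' : ((Nat.card G * Nat.card X * (d ψ ^ 2 * d χ + d χ ^ 2 * d ψ) : ℕ) : ℝ) ≤
              ((Nat.card G * Nat.card X * (e * (d ψ ^ 2 + d χ ^ 2)) : ℕ) : ℝ) := by
            push_cast at hb ⊢
            nlinarith [hb]
          exact_mod_cast h'
        have hb3 := Nat.le_of_mul_le_mul_left hb' (Nat.mul_pos Nat.card_pos Nat.card_pos)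
        have h1 := hde χ hne hχ
        have h2 := hde ψ hψ0 hψ
        by_contra hne'
        have h3 : e < d χ := lt_of_le_of_ne h1 (Ne.symm hne')
        have h4 : d ψ ^ 2 * e < d ψ ^ 2 * d χ := Nat.mul_lt_mul_of_pos_left h3 (pow_pos (hd0 ψ) 2)
        have h5 : d χ ^ 2 * e ≤ d χ ^ 2 * d ψ := Nat.mul_le_mul_left _ h2
        rw [mul_add, mul_comm e, mul_comm e] at hb3
        omega
      rw [hie]
      exact hecop.symm
    · push Not at hex
      have h1 := congrFun hπeq 1
      rw [hπ1, Finset.sum_apply, ← Finset.sum_subset (Finset.subset_univ {χ₀, χ})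
        (fun ψ _ hψ => by
          simp only [Finset.mem_insert, Finset.mem_singleton, not_or] at hψ
          rw [Pi.smul_apply, hex ψ hψ.1 hψ.2, Nat.cast_zero, zero_smul]),
        Finset.sum_pair (Ne.symm hne)] at h1
      simp only [Pi.smul_apply, smul_eq_mul, hd, hc0, Nat.cast_one, one_mul] at h1
      have h2 : d χ₀ = 1 := by
        have h : (d χ₀ : ℂ) = 1 := (hd χ₀).symm
        exact_mod_cast h
      rw [h2] at h1
      have h3 : Nat.card X = 1 + c χ * d χ := by exact_mod_cast h1
      rw [h3]
      exact (Nat.coprime_add_mul_right_right (d χ) 1 (c χ)).2 (Nat.coprime_one_right _)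
  -- so the fixed point is unique
  have hz1 : π z = 1 := by
    rw [hπeq, Finset.sum_apply, Finset.sum_eq_single χ₀ (fun χ _ hne => ?_) (by simp)]
    · simp [hc0, χ₀]
    · rcases Nat.eq_zero_or_pos (c χ) with h | h
      · simp [h]
      rw [Pi.smul_apply, irr_apply_eq_zero hnc χ.2 (fun e' => hne (Subtype.ext e')) hz (hd χ)
        (by rw [← hK, hidx]; exact hdcop χ hne h.ne'), smul_zero]
  have hcard1 : Nat.card (MulAction.fixedBy (G ⧸ K) z) = 1 := by
    rw [hfix] at hz1
    simp only at hz1
    exact_mod_cast hz1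
  obtain ⟨hsub, -⟩ := Nat.card_eq_one_iff_unique.1 hcard1
  have hzK : z ∈ K := mem_centralizer_singleton_iff.2 rfl
  have f1 : (QuotientGroup.mk (1 : G) : G ⧸ K) ∈ MulAction.fixedBy (G ⧸ K) z := by
    show QuotientGroup.mk (z * 1) = QuotientGroup.mk (1 : G)
    rw [QuotientGroup.eq, mul_one, mul_one]
    exact inv_mem hzK
  have f2 : (QuotientGroup.mk g⁻¹ : G ⧸ K) ∈ MulAction.fixedBy (G ⧸ K) z := by
    show QuotientGroup.mk (z * g⁻¹) = QuotientGroup.mk g⁻¹
    rw [QuotientGroup.eq, mem_centralizer_singleton_iff]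
    have h1 : Commute z (g * z⁻¹ * g⁻¹) := by
      rw [show g * z⁻¹ * g⁻¹ = (g * z * g⁻¹)⁻¹ by group]; exact hg.inv_right
    rw [show (z * g⁻¹)⁻¹ * g⁻¹ = g * z⁻¹ * g⁻¹ by group]
    exact h1.eq.symm
  have hgK : g⁻¹ ∈ K := by
    have h := congrArg Subtype.val (hsub.elim ⟨_, f2⟩ ⟨_, f1⟩)
    have h' : (g⁻¹)⁻¹ * 1 ∈ K := (QuotientGroup.eq).1 h
    rw [inv_inv, mul_one] at h'
    exact inv_mem h'
  have hgz := mem_centralizer_singleton_iff.1 ((inv_mem_iff (H := K)).1 hgK)
  rw [hgz, mul_inv_cancel_right]

end Cfsg.Lib.RankThree
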