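import Cfsg.Agent.Lib.RankThree.Basic
import Cfsg.Agent.Lib.CIT.CN
import Cfsg.Agent.Lib.CIT.CNStruct.PSLThreeFour
import Cfsg.Agent.Lib.CIT.NonSolvIndex
import Cfsg.Agent.Lib.GW.Basic
import Cfsg.Agent.S0563

/-!
# Simple CN-groups with three centralizer orders have abelian involution centralizers

Two of the orders are odd, so every nontrivial 2-element is centralized by exactly a Sylow 2-subgroup; of the
possibilities for a simple CIT group only TI Sylow 2-subgroups survive, and then they are abelian.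
-/

set_option autoImplicit false
set_option linter.style.haveILetI false
set_option linter.unusedSectionVars false

namespace Cfsg.Lib.RankThree

open Subgroup
open Cfsg.Lib.TwoSizes (PW)
open scoped MatrixGroups

universe u

variable {G : Type u} [Group G] [Finite G]

theorem psl34_not_commute (hG : CIT.IsoPSLThreeFour G) :
    ∃ u v : G, u * u = v * v ∧ u * u ≠ 1 ∧ orderOf (u * u) = 2 ∧ ¬ Commute u v := by
  obtain ⟨F, _, _, hF, ⟨e⟩⟩ := hG
  classical
  haveI : Fact (Nat.Prime 3) := ⟨Nat.prime_three⟩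
  obtain ⟨ε, hε⟩ := exists_prime_orderOf_dvd_card' (G := Fˣ) 3
    (by rw [Nat.card_eq_fintype_card, Fintype.card_units, hF])
  obtain ⟨w, hw⟩ : ∃ w : F, w = (ε : F) := ⟨_, rfl⟩
  have h2 : (2 : F) = 0 := by
    have h0 : ((Fintype.card F : ℕ) : F) = 0 := Nat.cast_card_eq_zero F
    rw [hF] at h0
    push_cast at h0
    have h22 : (2 : F) * 2 = 0 := by rw [← h0]; ring
    exact mul_self_eq_zero.1 h22
  have hc : CIT.CNStruct.Cube w := by
    have h1 : w ≠ 1 := fun h => by
      rw [hw, Units.val_eq_one] at h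
      rw [h, orderOf_one] at hε
      omega
    have h3 : w ^ 3 = 1 := by
      rw [hw, ← Units.val_pow_eq_pow_val, ← hε, pow_orderOf_eq_one, Units.val_one]
    refine ⟨h2, ?_, h1, hw ▸ ε.ne_zero⟩
    have : (w - 1) * (w ^ 2 + w + 1) = 0 := by linear_combination h3
    rcases mul_eq_zero.1 this with h | h
    · exact absurd (sub_eq_zero.1 h) h1
    · linear_combination h - (w + 1) * h2
  obtain ⟨-, -, dz, du, dv, uu, vv, -, -, -, -, -, -, -, -, -, zz⟩ := CIT.CNStruct.mat_facts hc
  let zs : SL(3, F) := ⟨CIT.CNStruct.zM, dz⟩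
  let us : SL(3, F) := ⟨CIT.CNStruct.uM w, du⟩
  let vs : SL(3, F) := ⟨CIT.CNStruct.vM w, dv⟩
  have huv : us * vs = zs * (vs * us) := Subtype.ext (by
    show CIT.CNStruct.uM w * CIT.CNStruct.vM w =
      CIT.CNStruct.zM * (CIT.CNStruct.vM w * CIT.CNStruct.uM w)
    ext i j
    fin_cases i <;> fin_cases j <;>
      simp [Matrix.mul_apply, Fin.sum_univ_three, CIT.CNStruct.uM, CIT.CNStruct.vM, CIT.CNStruct.zM]
    all_goals try ring_nf
    all_goals try simp [h2, hc.three, hc.four, hc.neg, hc.sum, hc.p3, hc.p4]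
    all_goals try ring_nf
    all_goals try simp [h2, hc.three, hc.four, hc.neg, hc.sum, hc.p3, hc.p4])
  let f : SL(3, F) →* G := e.symm.toMonoidHom.comp (QuotientGroup.mk' (Subgroup.center SL(3, F)))
  have hz1 : f zs ≠ 1 := by
    intro h
    have h' : QuotientGroup.mk' (Subgroup.center SL(3, F)) zs = 1 :=
      e.symm.injective (h.trans (map_one e.symm).symm)
    obtain ⟨r, -, hr⟩ :=
      Matrix.SpecialLinearGroup.mem_center_iff.mp ((QuotientGroup.eq_one_iff zs).mp h')
    have h01 := congrFun (congrFun hr 0) 1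
    simp [zs, CIT.CNStruct.zM] at h01
  have hu : f us * f us = f zs := by rw [← map_mul]; exact congrArg f (Subtype.ext uu)
  have hv : f vs * f vs = f zs := by rw [← map_mul]; exact congrArg f (Subtype.ext vv)
  have hz : f zs * f zs = 1 := by
    rw [← map_mul, show zs * zs = 1 from Subtype.ext zz, map_one]
  refine ⟨f us, f vs, hu.trans hv.symm, hu ▸ hz1, ?_, fun hc' => hz1 ?_⟩
  · rw [hu]
    exact orderOf_eq_prime (by rw [pow_two, hz]) hz1
  · have h1 := congrArg f huv
    rw [map_mul, map_mul, map_mul, hc'.eq] at h1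
    exact mul_eq_right.1 h1.symm

theorem even_dichotomy (hC : CIT.IsCIT G) {g : G} (hg : g ≠ 1) :
    (Odd (orderOf g) ∧ Odd (cd g)) ∨ (Even (orderOf g) ∧ IsPGroup 2 (CG g) ∧ Even (cd g)) := by
  haveI : Fact (Nat.Prime 2) := ⟨Nat.prime_two⟩
  have hd : orderOf g ∣ cd g := Subgroup.orderOf_dvd_natCard _ (mem_CG.2 (Commute.refl g))
  rcases Nat.even_or_odd (orderOf g) with he | ho
  · refine Or.inr ⟨he, ?_, even_iff_two_dvd.2 ((even_iff_two_dvd.1 he).trans hd)⟩
    exact (hC _ (orderOf_pow_orderOf_div (orderOf_pos g).ne' (even_iff_two_dvd.1 he))).to_le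
      (TwoSizes.cent_mono_of_mem_zpowers (pow_mem (mem_zpowers g) _))
  · refine Or.inl ⟨ho, Nat.not_even_iff_odd.1 fun h => hg ?_⟩
    obtain ⟨t, ht⟩ := exists_prime_orderOf_dvd_card' (G := CG g) 2 (even_iff_two_dvd.1 h)
    have hgt : g ∈ centralizer ({(t : G)} : Set G) := mem_CG_comm.1 t.2
    obtain ⟨k, hk⟩ := hC (t : G) (by rw [Subgroup.orderOf_coe, ht]) ⟨g, hgt⟩
    exact orderOf_eq_one_iff.1 (Nat.eq_one_of_dvd_coprimes ((Nat.coprime_two_right.2 ho).pow_right k)
      dvd_rfl (orderOf_dvd_of_pow_eq_one (congrArg Subtype.val hk)))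

/-- There are at least two odd centralizer orders. -/
theorem exists_two_odd [IsSimpleGroup G] (hnc : ¬ IsMulCommutative G) (hN : Cfsg.IsCNGroup G)
    (hC : CIT.IsCIT G) : ∃ x y : G, x ≠ 1 ∧ y ≠ 1 ∧ Odd (cd x) ∧ Odd (cd y) ∧ cd x ≠ cd y := by
  haveI : Fact (Nat.Prime 2) := ⟨Nat.prime_two⟩
  have hns := GW.not_isSolvable_of_simple hnc
  obtain ⟨x, hx, hxo⟩ : ∃ x : G, x ≠ 1 ∧ Odd (cd x) := by
    by_contra hno
    have h2 : IsPGroup 2 G := fun g => by
      refine ⟨(orderOf g).primeFactorsList.length, orderOf_dvd_iff_pow_eq_one.1 (dvd_of_eq ?_)⟩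
      refine Nat.eq_prime_pow_of_unique_prime_dvd (orderOf_pos g).ne' fun {d} hd hdv => ?_
      by_contra hd2
      refine hno ⟨g ^ (orderOf g / d), fun e => ?_, ?_⟩
      · have := orderOf_pow_orderOf_div (orderOf_pos g).ne' hdv
        rw [e, orderOf_one] at this
        exact hd.ne_one this.symm
      · rcases even_dichotomy hC (g := g ^ (orderOf g / d)) (fun e => by
            have := orderOf_pow_orderOf_div (orderOf_pos g).ne' hdv
            rw [e, orderOf_one] at this
            exact hd.ne_one this.symm) with h | h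
        · exact h.2
        · rw [orderOf_pow_orderOf_div (orderOf_pos g).ne' hdv] at h
          exact absurd ((Nat.prime_dvd_prime_iff_eq Nat.prime_two hd).1 (even_iff_two_dvd.1 h.1)).symm hd2
    haveI := h2.isNilpotent
    exact hns inferInstance
  by_contra hno
  have hall : ∀ y : G, y ≠ 1 → Odd (cd y) → cd y = cd x := fun y hy hyo =>
    (by_contra fun e => hno ⟨x, y, hx, hy, hxo, hyo, Ne.symm e⟩)
  have hfull : ∀ p : ℕ, p.Prime → p ≠ 2 → FullPart G p (cd x) := by
    intro p hp hp2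
    by_cases hd : p ∣ Nat.card G
    · obtain ⟨z, hz, hzp, hzf⟩ := exists_central_full hp hd
      rcases even_dichotomy hC hz with h | h
      · rwa [hall z hz h.2] at hzf
      · obtain ⟨k, hk⟩ := hzp
        exact absurd ((Nat.prime_dvd_prime_iff_eq Nat.prime_two hp).1 (Nat.prime_two.dvd_of_dvd_pow
          ((even_iff_two_dvd.1 h.1).trans (orderOf_dvd_of_pow_eq_one hk)))).symm hp2
    · exact fullPart_of_not_dvd hd
  obtain ⟨S⟩ : Nonempty (Sylow 2 G) := inferInstance
  have hcop : (Nat.card (S : Subgroup G)).Coprime (cd x) := by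
    rw [S.card_eq_multiplicity]
    exact (Nat.coprime_two_left.2 hxo).pow_left _
  have hcard : Nat.card (S : Subgroup G) * cd x = Nat.card G := by
    refine Nat.dvd_antisymm (hcop.mul_dvd_of_dvd_of_dvd (card_subgroup_dvd_card _) (cd_dvd x)) ?_
    have hs0 : Nat.card (S : Subgroup G) ≠ 0 := Nat.card_pos.ne'
    rw [← Nat.factorization_le_iff_dvd Nat.card_pos.ne' (Nat.mul_ne_zero hs0 (cd_pos x).ne')]
    intro p
    by_cases hp : p.Prime
    · rw [Nat.factorization_mul hs0 (cd_pos x).ne', Finsupp.add_apply]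
      by_cases hp2 : p = 2
      · subst hp2
        rw [S.card_eq_multiplicity, Nat.prime_two.factorization_pow, Finsupp.single_eq_same]
        exact Nat.le_add_right _ _
      · exact le_add_left ((hp.pow_dvd_iff_le_factorization (cd_pos x).ne').1 (hfull p hp hp2))
    · simp [Nat.factorization_eq_zero_of_not_prime _ hp]
  have hcomp : IsComplement' (S : Subgroup G) (CG x) := Subgroup.isComplement'_of_coprime hcard hcop
  haveI : Group.IsNilpotent (S : Subgroup G) := S.2.isNilpotent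
  refine hns (Cfsg.Agent.S0563.result (S : Subgroup G) (CG x) inferInstance (hN x hx) hcop fun g => ?_).1
  obtain ⟨⟨⟨s, hs⟩, ⟨v, hv⟩⟩, hsv⟩ := (Function.Bijective.surjective hcomp) g
  exact ⟨s, hs, v, hv, hsv.symm⟩

/-- In a simple CN-group with three centralizer orders the centralizers of involutions are abelian. -/
theorem abelian_invol_of_cn [IsSimpleGroup G] (hnc : ¬ IsMulCommutative G) (hN : Cfsg.IsCNGroup G)
    (h3 : {n : ℕ | ∃ g : G, g ≠ 1 ∧ cd g = n}.ncard = 3) :
    ∀ t : G, orderOf t = 2 → IsMulCommutative ↥(centralizer ({t} : Set G)) := by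
  classical
  haveI : Fact (Nat.Prime 2) := ⟨Nat.prime_two⟩
  have hC : CIT.IsCIT G := CIT.isCIT_of_isCN hnc hN
  obtain ⟨x, y, hx, hy, hxo, hyo, hxy⟩ := exists_two_odd hnc hN hC
  set N2 := 2 ^ (Nat.card G).factorization 2 with hN2
  have hpow : ∀ g : G, g ≠ 1 → Even (cd g) → IsPGroup 2 (CG g) := fun g hg he => by
    rcases even_dichotomy hC hg with h | h
    · exact absurd he (Nat.not_even_iff_odd.2 h.2)
    · exact h.2.1
  have h2G : 2 ∣ Nat.card G := even_iff_two_dvd.1 (by
    by_contra h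
    exact GW.not_isSolvable_of_simple hnc (Cfsg.Agent.S0205.result (Nat.not_even_iff_odd.1 h)))
  obtain ⟨z, hz, hzp, hzf⟩ := exists_central_full Nat.prime_two h2G
  have hze : Even (cd z) := by
    rw [even_iff_two_dvd]; exact prime_dvd_cd Nat.prime_two hzp hz
  have hzc : cd z = N2 := by
    obtain ⟨P, hP⟩ := (hpow z hz hze).exists_le_sylow
    refine Nat.dvd_antisymm ?_ hzf
    rw [hN2, ← P.card_eq_multiplicity]
    exact card_dvd_of_le hP
  have hval : ∀ g : G, g ≠ 1 → Even (cd g) → cd g = N2 := by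
    intro g hg he
    have hfin : {n : ℕ | ∃ g : G, g ≠ 1 ∧ cd g = n}.Finite := Set.finite_of_ncard_pos (by omega)
    have hne : ∀ {v : G}, Odd (cd v) → ∀ {w : G}, Even (cd w) → cd v ≠ cd w := fun hv hw hw' e =>
      Nat.not_even_iff_odd.2 hv (e ▸ hw')
    have heq : ({cd x, cd y, cd z} : Set ℕ) = {n : ℕ | ∃ g : G, g ≠ 1 ∧ cd g = n} := by
      refine Set.eq_of_subset_of_ncard_le ?_ ?_ hfin
      · rintro n (rfl | rfl | rfl)
        exacts [⟨x, hx, rfl⟩, ⟨y, hy, rfl⟩, ⟨z, hz, rfl⟩]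
      · rw [h3, Set.ncard_eq_three.2 ⟨_, _, _, hxy, hne hxo hze, hne hyo hze, rfl⟩]
    have hm : cd g ∈ ({cd x, cd y, cd z} : Set ℕ) := heq ▸ ⟨g, hg, rfl⟩
    rcases hm with e | e | e
    · exact absurd e (hne hxo he).symm
    · exact absurd e (hne hyo he).symm
    · exact e.trans hzc
  have hsyl : ∀ g : G, g ≠ 1 → Even (orderOf g) → ∃ T : Sylow 2 G, (T : Subgroup G) = CG g := by
    intro g hg he
    refine ⟨Sylow.ofCard (CG g) (hval g hg ?_), rfl⟩
    rw [even_iff_two_dvd] at he ⊢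
    exact he.trans (Subgroup.orderOf_dvd_natCard _ (mem_CG.2 (Commute.refl g)))
  have hev : ∀ (T : Sylow 2 G) (g : G), g ∈ (T : Subgroup G) → g ≠ 1 → Even (orderOf g) := by
    intro T g hg hg1
    obtain ⟨k, hk⟩ := IsPGroup.iff_orderOf.1 T.2 ⟨g, hg⟩
    rw [Subgroup.orderOf_mk] at hk
    rw [hk]
    refine (Nat.even_pow).2 ⟨even_two, fun e => hg1 (orderOf_eq_one_iff.1 (by rw [hk, e, pow_zero]))⟩
  intro t ht
  have ht1 : t ≠ 1 := fun e => by rw [e, orderOf_one] at ht; omega
  obtain ⟨T, hT⟩ := hsyl t ht1 (by rw [ht]; exact even_two)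
  rcases CIT.trichotomy (CIT.ffHolds CIT.tiHolds) (Nat.card G + 1) G hnc hC (Nat.lt_succ_self _) with
    hTI | hD | hP
  · refine ⟨⟨fun a b => Subtype.ext ?_⟩⟩
    show (a : G) * b = b * a
    rcases eq_or_ne (a : G) 1 with e | e
    · rw [e, one_mul, mul_one]
    have haT : (a : G) ∈ (T : Subgroup G) := hT ▸ a.2
    obtain ⟨U, hU⟩ := hsyl _ e (hev T _ haT e)
    have hUT : U = T := by
      by_contra hne
      have h1 : (a : G) ∈ (U : Subgroup G) ⊓ (T : Subgroup G) :=
        ⟨hU ▸ mem_CG.2 (Commute.refl _), haT⟩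
      rw [hTI U T hne, mem_bot] at h1
      exact e h1
    have hb : (b : G) ∈ CG (a : G) := hU ▸ hUT ▸ hT ▸ b.2
    exact (mem_CG.1 hb).eq.symm
  · exfalso
    obtain ⟨k, hk, ⟨f⟩⟩ := hD T
    haveI : NeZero (2 ^ k) := ⟨by positivity⟩
    set v : (T : Subgroup G) := f.symm (DihedralGroup.r 1) with hv
    have hvo : orderOf (v : G) = 2 ^ k := by
      rw [Subgroup.orderOf_coe, hv, MulEquiv.orderOf_eq, DihedralGroup.orderOf_r_one]
    have h4 : 4 ≤ 2 ^ k := le_trans (by norm_num) (Nat.pow_le_pow_right two_pos hk)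
    have hv1 : (v : G) ≠ 1 := fun e => by rw [e, orderOf_one] at hvo; omega
    obtain ⟨U, hU⟩ := hsyl _ hv1 (hev T _ v.2 hv1)
    obtain ⟨k', hk', ⟨f'⟩⟩ := hD U
    set d := f' ⟨(v : G), hU ▸ mem_CG.2 (Commute.refl _)⟩ with hd
    have hdc : ∀ e, Commute d e := fun e => by
      obtain ⟨s, rfl⟩ := f'.surjective e
      refine Commute.map (Subtype.ext ?_ : Commute (⟨(v : G), _⟩ : (U : Subgroup G)) s) f'
      exact (mem_CG.1 (hU ▸ s.2 : (s : G) ∈ CG (v : G))).eq.symm
    have hdo : orderOf d = 2 ^ k := by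
      rw [hd, MulEquiv.orderOf_eq, Subgroup.orderOf_mk, hvo]
    have h4' : 4 ≤ 2 ^ k' := le_trans (by norm_num) (Nat.pow_le_pow_right two_pos hk')
    have h2ne : ((2 : ℕ) : ZMod (2 ^ k')) ≠ 0 := by
      rw [Ne, ZMod.natCast_eq_zero_iff]
      intro h
      have := Nat.le_of_dvd two_pos h
      omega
    rcases hde : d with i | i
    · have h := (hdc (DihedralGroup.sr 0)).eq
      rw [hde, DihedralGroup.r_mul_sr, DihedralGroup.sr_mul_r, DihedralGroup.sr.injEq] at h
      have h2 : d ^ 2 = 1 := by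
        rw [pow_two, hde, DihedralGroup.r_mul_r, DihedralGroup.one_def]
        congr 1
        linear_combination -h
      have := Nat.le_of_dvd two_pos (orderOf_dvd_of_pow_eq_one h2)
      omega
    · have h := (hdc (DihedralGroup.r 1)).eq
      rw [hde, DihedralGroup.sr_mul_r, DihedralGroup.r_mul_sr, DihedralGroup.sr.injEq] at h
      exact h2ne (by push_cast; linear_combination h)
  · exfalso
    obtain ⟨u, v, huv, hu2, hu22, hnc'⟩ := psl34_not_commute hP
    have hu1 : u ≠ 1 := fun e => hu2 (by rw [e, one_mul])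
    have hle : CG u ≤ CG (u * u) := fun g hg => mem_CG.2 ((mem_CG.1 hg).mul_right (mem_CG.1 hg))
    have hueven : Even (cd u) := by
      rcases even_dichotomy hC hu1 with h | h
      · exfalso
        have h2 : orderOf (u * u) = orderOf u := by
          rw [← pow_two, orderOf_pow, h.1.coprime_two_left.symm.gcd_eq_one, Nat.div_one]
        rw [← h2, hu22] at h
        exact absurd h.1 (by decide)
      · exact h.2.2
    have heq : CG u = CG (u * u) := Subgroup.eq_of_le_of_card_ge hle (le_of_eq ((hval _ hu2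
      (even_iff_two_dvd.2 ((even_iff_two_dvd.1 hueven).trans (card_dvd_of_le hle)))).trans
      (hval u hu1 hueven).symm))
    refine hnc' (mem_CG.1 (?_ : v ∈ CG u)).symm
    rw [heq, huv]
    exact mem_CG.2 ((Commute.refl v).mul_right (Commute.refl v))

end Cfsg.Lib.RankThree
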