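import Cfsg.Agent.Lib.RankThree.Basic
import Cfsg.Agent.Lib.RankThree.CCPerm
import Cfsg.Agent.Lib.Invol.Embedded
import Cfsg.Agent.Lib.ZStar.Main
import Cfsg.Agent.Lib.Local.Isolated
import Cfsg.Agent.Lib.Core.Cores
import Cfsg.Agent.Lib.CompositeOrder.Simple

/-!
# Three centralizer orders: the case of two maximal orders

When `a` does not divide `c` there is an abelian CC-subgroup `X` of order `c` and index `b`. If `c` is even,
the centralizers of involutions are abelian. If `c` is odd, the elements of order `b` are isolated, so the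
centralizer of one of them is strongly embedded, which leads to a contradiction.
-/

set_option autoImplicit false
set_option linter.style.haveILetI false
set_option linter.unusedSectionVars false

namespace Cfsg.Lib.RankThree

open Subgroup
open scoped commutatorElement
open Cfsg.Lib.TwoSizes (PW)

universe u

variable {G : Type u} [Group G] [Finite G] [IsSimpleGroup G] {a b c : ℕ}

theorem center_eq_bot' (hnc : ¬ IsMulCommutative G) : center G = ⊥ :=
  ((inferInstance : (center G).Normal).eq_bot_or_eq_top).resolve_right fun e =>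
    hnc ⟨⟨fun x y => mem_center_iff.1 (e ▸ mem_top y) x⟩⟩

theorem oddCore_eq_bot' (hnc : ¬ IsMulCommutative G) : Cfsg.oddCore G = ⊥ := by
  refine ((inferInstance : (Cfsg.pPrimeCore 2 G).Normal).eq_bot_or_eq_top).resolve_right fun e => ?_
  have h1 := Core.pPrimeCore_coprime 2 G
  rw [e, Subgroup.card_top] at h1
  exact absurd (even_iff_two_dvd.1 (CompOrd.even_card hnc))
    ((Nat.prime_two.coprime_iff_not_dvd).1 h1.symm)

theorem orderOf_dvd_cd {g x : G} (h : x ∈ CG g) : orderOf x ∣ cd g :=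
  Subgroup.orderOf_dvd_natCard _ h

/-- The centralizer of `g` contains a Sylow subgroup for the full prime `p`, so every `p`-element commutes
with a conjugate of `g`. -/
theorem exists_conj_mem_CG {p : ℕ} (hp : p.Prime) {g w : G} (hf : FullPart G p (cd g)) (hw : PW p w) :
    ∃ u : G, u * g * u⁻¹ ∈ CG w := by
  haveI := Fact.mk hp
  obtain ⟨P, hP⟩ := hw.isPGroup_zpowers.exists_le_sylow
  obtain ⟨S⟩ : Nonempty (Sylow p (CG g)) := inferInstance
  let S' : Sylow p G := (S.2.map (CG g).subtype).toSylow (by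
    rw [index_map_subtype]
    exact hp.not_dvd_mul S.not_dvd_index ((fullPart_index hp).1 hf))
  obtain ⟨u, hu⟩ := MulAction.exists_smul_eq G S' P
  refine ⟨u, ?_⟩
  have h1 : w ∈ (P : Subgroup G) := hP (mem_zpowers w)
  rw [← hu, Sylow.coe_subgroup_smul] at h1
  obtain ⟨s, hs, rfl⟩ := h1
  exact mem_CG.2 ((mem_CG.1 (Subgroup.map_subtype_le _ hs : s ∈ CG g)).symm.conj u)

theorem Sizes.coprime_bc (h : Sizes G a b c) {X : Subgroup G} (hX : CCData X c) : b.Coprime c := by
  refine Nat.coprime_of_dvd' fun q hq hb hc => ?_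
  exfalso
  obtain ⟨x, hx, hxb⟩ := h.ex_b
  haveI := Fact.mk hq
  obtain ⟨w, hw⟩ := exists_prime_orderOf_dvd_card' (G := CG x) q (show q ∣ cd x by rw [hxb]; exact hb)
  have hwp : PW q (w : G) := ⟨1, by rw [pow_one, ← hw, ← Subgroup.orderOf_coe, pow_orderOf_eq_one]⟩
  have hw1 : (w : G) ≠ 1 := fun e => by
    rw [← Subgroup.orderOf_coe, e, orderOf_one] at hw
    exact hq.ne_one hw.symm
  obtain ⟨u, hu⟩ := hX.conj_mem hq hc hwp
  refine h.b_ne_c (hxb ▸ hX.cd_eq_of_mem (g := u) ?_ hx)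
  rw [← hX.cc _ hu fun e => hw1 (conj_eq_one_iff.1 e), mem_centralizer_singleton_iff]
  exact (Commute.conj (mem_CG.1 (mem_CG_comm.1 w.2)) u).eq

theorem Sizes.mul_eq_card (h : Sizes G a b c) {X : Subgroup G} (hX : CCData X c) :
    b * c = Nat.card G := by
  obtain ⟨x, -, hxb⟩ := h.ex_b
  obtain ⟨y, -, hyc⟩ := h.ex_c
  refine Nat.dvd_antisymm ((h.coprime_bc hX).mul_dvd_of_dvd_of_dvd (hxb ▸ cd_dvd x) (hyc ▸ cd_dvd y)) ?_
  have hb0 : b ≠ 0 := by have := h.lt; omega
  have hc0 : c ≠ 0 := hyc ▸ (cd_pos y).ne'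
  rw [← Nat.factorization_le_iff_dvd Nat.card_pos.ne' (Nat.mul_ne_zero hb0 hc0)]
  intro p
  by_cases hp : p.Prime
  · rw [Nat.factorization_mul hb0 hc0, Finsupp.add_apply]
    rcases h.full_cases hp with e | e
    · exact le_add_right ((hp.pow_dvd_iff_le_factorization hb0).1 e)
    · exact le_add_left ((hp.pow_dvd_iff_le_factorization hc0).1 e)
  · simp [Nat.factorization_eq_zero_of_not_prime _ hp]

theorem Sizes.isolated_b (h : Sizes G a b c) (hnc : ¬ IsMulCommutative G) {X : Subgroup G}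
    (hX : CCData X c) {z : G} (hz : z ≠ 1) (hzb : cd z = b) : Cfsg.IsIsolated z := by
  haveI : Fintype G := Fintype.ofFinite G
  intro g hg
  refine conj_eq_of_commute hnc X hX.comm hX.cc hX.hall hz ?_ ?_ g hg
  · have h1 := (CG z).card_mul_index
    rw [show Nat.card (CG z) = b from hzb, ← h.mul_eq_card hX] at h1
    rw [hX.card]
    exact mul_left_cancel₀ (by have := h.lt; omega : b ≠ 0) h1
  · rw [show Nat.card (centralizer ({z} : Set G)) = b from hzb, hX.card]
    exact h.coprime_bc hX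

theorem commute_of_isPGroup {p : ℕ} [Fact p.Prime] {K : Subgroup G} [Group.IsNilpotent K] {x y : G}
    (hx : x ∈ K) (hy : y ∈ K) (hxp : PW p x) (hyp : PW p y) (hiso : Cfsg.IsIsolated x) : Commute y x := by
  obtain ⟨P⟩ : Nonempty (Sylow p K) := inferInstance
  have hmem : ∀ v : G, ∀ hv : v ∈ K, PW p v → v ∈ (P : Subgroup K).map K.subtype := by
    intro v hv hvp
    obtain ⟨k, hk⟩ := hvp
    have hvp' : PW p (⟨v, hv⟩ : K) := ⟨k, Subtype.ext (by simpa using hk)⟩
    obtain ⟨Q, hQ⟩ := hvp'.isPGroup_zpowers.exists_le_sylow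
    haveI : Subsingleton (Sylow p K) := (Sylow.unique_of_normal P inferInstance).instSubsingleton
    exact ⟨⟨v, hv⟩, Subsingleton.elim Q P ▸ hQ (mem_zpowers _), rfl⟩
  exact mem_centralizer_singleton_iff.1
    (Local.isolated_le_centralizer hiso (P.2.map K.subtype) (hmem x hx hxp) (hmem y hy hyp))

/-- A group with abelian Sylow subgroups, each centralized by its normalizer, is abelian. -/
theorem commute_of_burnside {D : Type u} [Group D] [Finite D]
    (hD : ∀ (l : ℕ) [Fact l.Prime] (L : Sylow l D),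
      normalizer ((L : Subgroup D) : Set D) ≤ centralizer ((L : Subgroup D) : Set D)) (x y : D) :
    Commute x y := by
  have hbot : commutator D = ⊥ := by
    rw [← Subgroup.card_eq_one]
    by_contra hne
    obtain ⟨l, hl, hd⟩ := Nat.exists_prime_and_dvd hne
    haveI := Fact.mk hl
    obtain ⟨L⟩ : Nonempty (Sylow l D) := inferInstance
    have hc := MonoidHom.ker_transferSylow_isComplement' L (hD l L)
    haveI : IsMulCommutative ↥(L : Subgroup D) :=
      ⟨⟨fun s t => Subtype.ext (hD l L (le_normalizer t.2) s s.2)⟩⟩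
    open scoped IsMulCommutative in
    have hle : commutator D ≤ (MonoidHom.transferSylow L (hD l L)).ker :=
      Abelianization.commutator_subset_ker _
    have h2 := hd.trans (card_dvd_of_le hle)
    rw [← hc.index_eq_card] at h2
    exact L.not_dvd_index h2
  have h1 : ⁅x, y⁆ ∈ commutator D := commutator_mem_commutator (mem_top x) (mem_top y)
  rw [hbot, mem_bot, commutatorElement_eq_one_iff_commute] at h1
  exact h1

/-- If `a` does not divide `c`, the centralizers of involutions are abelian. -/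
theorem Sizes.abelian_invol (h : Sizes G a b c) (hnc : ¬ IsMulCommutative G) (hac : ¬ a ∣ c) :
    ∀ t : G, orderOf t = 2 → IsMulCommutative ↥(centralizer ({t} : Set G)) := by
  classical
  haveI : Fact (Nat.Prime 2) := ⟨Nat.prime_two⟩
  obtain ⟨X, hX⟩ := h.exists_cc fun p _ x hx hxp hxc => h.cen_of_c hac hx hxp hxc
  by_cases h2c : 2 ∣ c
  · intro t ht
    have htp : PW 2 t := ⟨1, by rw [pow_one, ← ht, pow_orderOf_eq_one]⟩
    have ht1 : t ≠ 1 := fun e => by rw [e, orderOf_one] at ht; omega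
    obtain ⟨u, hu⟩ := hX.conj_mem Nat.prime_two h2c htp
    have hC := hX.cc _ hu fun e => ht1 (conj_eq_one_iff.1 e)
    refine ⟨⟨fun v w => Subtype.ext ?_⟩⟩
    have hm : ∀ v ∈ CG t, u * v * u⁻¹ ∈ X := fun v hv => by
      rw [← hC, mem_centralizer_singleton_iff]
      exact ((mem_CG.1 hv).conj u).eq
    exact ((Commute.conj_iff u).1 (hX.comm _ (hm v v.2) _ (hm w w.2))).eq
  exfalso
  have hcop := h.coprime_bc hX
  have hfac : (Nat.card G).factorization 2 ≠ 0 := by
    have := (Nat.prime_two.dvd_iff_one_le_factorization Nat.card_pos.ne').1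
      (even_iff_two_dvd.1 (CompOrd.even_card (G := G) hnc))
    omega
  have hfull2 : FullPart G 2 b :=
    (h.full_cases Nat.prime_two).resolve_right fun e => h2c ((dvd_pow_self 2 hfac).trans e)
  have h2b : 2 ∣ b := (dvd_pow_self 2 hfac).trans hfull2
  have hiso_central : ∀ z : G, orderOf z = 2 → ¬ Cfsg.IsIsolatedInvolution z := fun z hz hzi => by
    have h1 := ZStar.mem_center_of_isolated (oddCore_eq_bot' hnc) hzi
    rw [center_eq_bot' hnc, mem_bot] at h1
    rw [h1, orderOf_one] at hz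
    omega
  have hinv : ∀ t : G, orderOf t = 2 → t ≠ 1 ∧ PW 2 t ∧ cd t = a := fun t ht => by
    have ht1 : t ≠ 1 := fun e => by rw [e, orderOf_one] at ht; omega
    refine ⟨ht1, ⟨1, by rw [pow_one, ← ht, pow_orderOf_eq_one]⟩, ?_⟩
    rcases h.cases t ht1 with e | e | e
    · exact e
    · exact absurd ⟨ht, h.isolated_b hnc hX ht1 e⟩ (hiso_central t ht)
    · refine absurd ?_ h2c
      rw [← ht, ← e]
      exact orderOf_dvd_cd (mem_CG.2 (Commute.refl t))
  -- a primary element of order `b`, of odd order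
  obtain ⟨x₀, hx₀, hx₀b⟩ := h.ex_b
  obtain ⟨p, hp, -, x, hx, hxp, hle⟩ := exists_part hx₀
  have hxb : cd x = b := by
    rw [cd, ← h.eq_of_top hx₀ hx hle (Or.inl hx₀b)]; exact hx₀b
  have hp2 : p ≠ 2 := by
    rintro rfl
    obtain ⟨k, hk⟩ := hxp
    obtain ⟨j, -, hj⟩ := (Nat.dvd_prime_pow Nat.prime_two).1 (orderOf_dvd_of_pow_eq_one hk)
    have hd2 : 2 ∣ orderOf x := hj ▸ dvd_pow_self 2 fun e => hx (orderOf_eq_one_iff.1 (by rw [hj, e, pow_zero]))
    set t := x ^ (orderOf x / 2) with ht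
    have hto : orderOf t = 2 := orderOf_pow_orderOf_div (orderOf_pos x).ne' hd2
    have hle : CG x ≤ CG t := TwoSizes.cent_mono_of_mem_zpowers (pow_mem (mem_zpowers x) _)
    have := Nat.le_of_dvd (cd_pos t) (card_dvd_of_le hle)
    rw [show Nat.card (CG x) = b from hxb, (hinv t hto).2.2] at this
    have := h.lt
    omega
  haveI := Fact.mk hp
  have hxiso := h.isolated_b hnc hX hx hxb
  have hpw : ∀ g : G, PW p (g * x * g⁻¹) := fun g => by
    obtain ⟨k, hk⟩ := hxp
    exact ⟨k, by rw [conj_pow, hk, mul_one, mul_inv_cancel]⟩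
  -- an involution commutes with exactly one conjugate of `x`
  have huniq : ∀ t : G, orderOf t = 2 → ∀ g g' : G, g * x * g⁻¹ ∈ CG t → g' * x * g'⁻¹ ∈ CG t →
      g * x * g⁻¹ = g' * x * g'⁻¹ := by
    intro t ht g g' hg hg'
    obtain ⟨ht1, htp, hta⟩ := hinv t ht
    have hle : CG t ≤ CG (g * x * g⁻¹) :=
      h.cen_of_a ht1 htp hta _ hg ((hpw g).reg hp Nat.prime_two hp2)
    have hc : Commute (g' * x * g'⁻¹) (g * x * g⁻¹) := mem_CG.1 (hle hg')
    have h1 := Local.isIsolated_conj hxiso g (g' * g⁻¹) (by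
      rw [show g' * g⁻¹ * (g * x * g⁻¹) * (g' * g⁻¹)⁻¹ = g' * x * g'⁻¹ by group]
      exact hc.symm)
    rw [show g' * g⁻¹ * (g * x * g⁻¹) * (g' * g⁻¹)⁻¹ = g' * x * g'⁻¹ by group] at h1
    exact h1.symm
  have hexi : ∀ t : G, orderOf t = 2 → ∃ g : G, g * x * g⁻¹ ∈ CG t := fun t ht =>
    exists_conj_mem_CG Nat.prime_two (by rw [hxb]; exact hfull2) (hinv t ht).2.1
  -- the centralizer of `x` is strongly embedded
  set K := CG x with hK
  have hxK : x ∈ K := mem_CG.2 (Commute.refl x)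
  have hKtop : K ≠ ⊤ := fun e => hx (by
    have : x ∈ center G := mem_center_iff.2 fun g => (mem_CG.1 (show g ∈ CG x by rw [← hK, e]; exact mem_top g)).eq
    rwa [center_eq_bot' hnc, mem_bot] at this)
  have hKeven : Even (Nat.card K) := by
    rw [show Nat.card K = b from hxb, even_iff_two_dvd]; exact h2b
  have hSE : Cfsg.IsStronglyEmbedded K := by
    rw [Invol.stronglyEmbedded_iff hKtop hKeven]
    intro t htK ht g hg
    have h1 := huniq t ht 1 g⁻¹ (by simpa using mem_CG_comm.1 htK) (by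
      refine mem_CG.2 ?_
      have h2 : Commute x (g * t * g⁻¹) := (mem_CG.1 hg).symm
      have h3 := h2.conj g⁻¹
      rw [show g⁻¹ * (g * t * g⁻¹) * g⁻¹⁻¹ = t by group] at h3
      exact h3)
    refine mem_CG.2 (show g * x = x * g from ?_)
    calc g * x = g * (1 * x * 1⁻¹) := by group
      _ = g * (g⁻¹ * x * g⁻¹⁻¹) := by rw [h1]
      _ = x * g := by group
  obtain ⟨t₁, ht₁K, ht₁⟩ := Invol.exists_involution_of_even hKeven
  obtain ⟨u, hu, huK⟩ : ∃ u : G, orderOf u = 2 ∧ u ∉ K := by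
    by_contra hno
    refine hKtop (eq_top_iff.2 fun g _ => Invol.se_mem hSE ht₁K ht₁ ?_)
    by_contra e
    exact hno ⟨_, by rw [← ht₁]; exact (MulAut.conj g).orderOf_eq t₁, e⟩
  set D := K ⊓ K.map (MulAut.conj u).toMonoidHom with hDdef
  have hDodd : Odd (Nat.card D) := hSE.2.2 u huK
  -- primary elements of `D` are isolated of order `b`
  have hDb : ∀ l : ℕ, l.Prime → ∀ d ∈ D, d ≠ 1 → PW l d → cd d = b := by
    intro l hl d hd hd1 hdl
    rcases h.cases d hd1 with e | e | e
    · exfalso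
      haveI := isNilpotent_of_cen hl (h.cen_of_a hd1 hdl e)
      have hx' : u * x * u⁻¹ ∈ CG d := by
        obtain ⟨v, hv, hve⟩ := hd.2
        rw [← hve]
        exact mem_CG.2 ((mem_CG.1 hv).symm.conj u)
      have hcm : Commute (u * x * u⁻¹) x := commute_of_isPGroup
        (mem_CG_comm.1 hd.1) hx' hxp (hpw u) hxiso
      refine huK (mem_CG.2 ?_)
      have := hxiso u hcm.symm
      exact (mul_inv_eq_iff_eq_mul.1 this)
    · exact e
    · exfalso
      obtain ⟨k, hk⟩ := hxp
      obtain ⟨j, -, hj⟩ := (Nat.dvd_prime_pow hp).1 (orderOf_dvd_of_pow_eq_one hk)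
      have hp1 : p ∣ orderOf x :=
        hj ▸ dvd_pow_self p fun e' => hx (orderOf_eq_one_iff.1 (by rw [hj, e', pow_zero]))
      refine hp.ne_one (Nat.eq_one_of_dvd_coprimes hcop ?_ ?_)
      · rw [← hxb]; exact hp1.trans (orderOf_dvd_cd hxK)
      · rw [← e]; exact hp1.trans (orderOf_dvd_cd (mem_CG_comm.1 hd.1))
  have hDiso : ∀ l : ℕ, l.Prime → ∀ d ∈ D, d ≠ 1 → PW l d → Cfsg.IsIsolated d :=
    fun l hl d hd hd1 hdl => h.isolated_b hnc hX hd1 (hDb l hl d hd hd1 hdl)
  have hDcomm : ∀ d ∈ D, ∀ d' ∈ D, Commute d d' := by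
    intro d hd d' hd'
    have h1 := commute_of_burnside (D := D) (fun l _ L => ?_) ⟨d, hd⟩ ⟨d', hd'⟩
    · exact congrArg Subtype.val h1.eq
    intro g hg v hv
    rcases eq_or_ne v 1 with rfl | hv1
    · simp
    have hv1' : (v : G) ≠ 1 := fun e => hv1 (Subtype.ext e)
    have hvp : PW l (v : G) := TwoSizes.PW.of_isPGroup (L.2.map D.subtype) ⟨v, hv, rfl⟩
    have hgN : (g : G) ∈ normalizer (((L : Subgroup D).map D.subtype : Subgroup G) : Set G) :=
      le_normalizer_map D.subtype ⟨g, hg, rfl⟩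
    have := Local.isolated_normalizer_le (p := l) (hDiso l Fact.out _ v.2 hv1' hvp) (L.2.map D.subtype)
      ⟨v, hv, rfl⟩ hgN
    exact Subtype.ext (mem_CG.1 this).eq.symm
  -- `D` centralizes all involutions of `K`
  have hfix : ∀ t : G, t ∈ K → orderOf t = 2 → ∀ d ∈ D, Commute d t := by
    intro t htK ht d hd
    refine mem_CG.1 (TwoSizes.mem_of_parts (H := CG t) fun l hl _ i hi => mem_CG.2 ?_)
    have hdi : d ^ i ∈ D := pow_mem hd i
    rcases eq_or_ne (d ^ i) 1 with e | e
    · rw [e]; exact Commute.one_left t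
    haveI := Fact.mk hl
    set e' := d ^ i with he'
    have hcd := hDb l hl e' hdi e hi
    obtain ⟨g, hg⟩ := exists_conj_mem_CG Nat.prime_two (g := e') (by rw [hcd]; exact hfull2) (hinv t ht).2.1
    have hgK : g * e' * g⁻¹ ∈ K :=
      Invol.se_centralizer hSE htK ht (mem_CG.1 hg)
    obtain ⟨k', hk'⟩ := hi
    obtain ⟨j', -, hj'⟩ := (Nat.dvd_prime_pow hl).1 (orderOf_dvd_of_pow_eq_one hk')
    obtain ⟨k, hk, hke⟩ := Local.isolated_exists_conj (hDiso l hl e' hdi e ⟨k', hk'⟩) ⟨j', hj'⟩ hdi.1 hgK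
    have hs : Commute e' (k * t * k⁻¹) := by
      rw [← hke]; exact (mem_CG.1 hg).conj k
    obtain ⟨d₂, hd₂, hd₂e⟩ := Invol.se_transitive hSE hu huK
      (s := k * t * k⁻¹) (by rw [← ht]; exact (MulAut.conj k).orderOf_eq t)
      (K.mul_mem (K.mul_mem hk htK) (K.inv_mem hk)) ht htK
    have h2 := hs.conj d₂
    rw [hd₂e, (hDcomm d₂ hd₂ e' hdi).eq, mul_inv_cancel_right] at h2
    exact h2
  have honly : ∀ t : G, t ∈ K → orderOf t = 2 → t = t₁ := by
    intro t htK ht
    obtain ⟨d, hd, hde⟩ := Invol.se_transitive hSE hu huK ht₁ ht₁K ht htK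
    rw [← hde, (hfix t₁ ht₁K ht₁ d hd).eq, mul_inv_cancel_right]
  obtain ⟨S⟩ : Nonempty (Sylow 2 K) := inferInstance
  refine hiso_central t₁ ht₁ (ZStar.isolated_of_unique_involution
    ((S.2.map K.subtype).toSylow ?_) ht₁ fun v hv hv2 => honly v (map_subtype_le _ hv) hv2)
  rw [index_map_subtype]
  exact Nat.prime_two.not_dvd_mul S.not_dvd_index
    ((fullPart_index Nat.prime_two).1 (by rw [show Nat.card K = b from hxb]; exact hfull2))

end Cfsg.Lib.RankThree
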