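import Cfsg.Agent.Lib.RankThree.Basic
import Cfsg.Agent.S4033
import Cfsg.Agent.Lib.PGroup.Elements

/-!
# Three centralizer orders: the smallest one cannot divide both of the others

If the order `a` divides both `b` and `c`, then a noncentral structure of two class sizes in the centralizer
of an element of order `b` shows that every centralizer contains a Sylow subgroup for the primes of `a`.
-/

set_option autoImplicit false
set_option linter.style.haveILetI false
set_option linter.unusedSectionVars false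

namespace Cfsg.Lib.RankThree

open Subgroup
open Cfsg.Lib.TwoSizes (PW)

variable {G : Type*} [Group G] [Finite G] {a b c : ℕ}

theorem coe_pw {K : Subgroup G} {r : ℕ} {w : G} (hw : w ∈ K) (h : PW r w) : PW r (⟨w, hw⟩ : K) := by
  obtain ⟨k, hk⟩ := h
  exact ⟨k, Subtype.ext (by simpa using hk)⟩

theorem mem_center_of_index_one {K : Type*} [Group K] {y : K}
    (h : (centralizer ({y} : Set K)).index = 1) : y ∈ center K := by
  rw [Subgroup.index_eq_one] at h
  exact mem_center_iff.2 fun g => mem_centralizer_singleton_iff.1 (h ▸ mem_top g)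

theorem full_of_not_dvd {p n m : ℕ} (hp : p.Prime) (hnm : n ∣ m) (h : ¬ p ∣ m / n)
    (hm : FullPart G p m) : FullPart G p n := by
  rw [FullPart, ← Nat.mul_div_cancel' hnm] at hm
  exact (((hp.coprime_iff_not_dvd).2 h).pow_left _).dvd_of_dvd_mul_right hm

/-- The structure of the centralizer of a `p`-element of order `b` without the property `Cen`. -/
theorem Sizes.noncen_b (h : Sizes G a b c) (hac : a ∣ c) {p : ℕ} (hp : p.Prime) {x : G} (hx : x ≠ 1)
    (hxp : PW p x) (hxb : cd x = b) (hn : ¬ Cen p x) :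
    ¬ FullPart G p c ∧ ∀ r : ℕ, r.Prime → FullPart G r c →
      (FullPart G r b → FullPart G r a) ∧ ∀ w ∈ CG x, PW r w → CG x ≤ CG w := by
  classical
  set K : Subgroup G := CG x with hK
  have ha0 : 0 < a := by have := h.one_lt_a; omega
  set n := b / a with hndef
  have hn1 : n ≠ 1 := fun e => (Nat.ne_of_lt h.lt) (Nat.eq_of_dvd_of_div_eq_one h.dvd e)
  -- the indices in `K`
  have hidx : ∀ y : K, (orderOf y).Coprime p → (centralizer ({y} : Set K)).index = 1 ∨
      (centralizer ({y} : Set K)).index = n := by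
    intro y hy
    have hxy : Commute x (y : G) := (mem_CG.1 y.2).symm
    obtain ⟨k, hk⟩ := hxp
    have hc : (orderOf x).Coprime (orderOf (y : G)) := by
      rw [Subgroup.orderOf_coe]
      exact (Nat.Coprime.pow_left k hy.symm).coprime_dvd_left (orderOf_dvd_of_pow_eq_one hk)
    have hcard : Nat.card (centralizer ({y} : Set K)) = cd (x * (y : G)) := by
      have e : centralizer ({y} : Set K) = (CG (x * (y : G))).subgroupOf K := by
        ext v
        rw [mem_centralizer_singleton_iff, mem_subgroupOf, CG_mul hxy hc, Subgroup.mem_inf]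
        exact ⟨fun e => ⟨v.2, mem_CG.2 (congrArg Subtype.val e)⟩,
          fun e => Subtype.ext (mem_CG.1 e.2).eq⟩
      rw [e]
      exact Nat.card_congr (subgroupOfEquivOfLe (by rw [CG_mul hxy hc]; exact inf_le_left)).toEquiv
    have hmul := (centralizer ({y} : Set K)).card_mul_index
    rw [hcard, show Nat.card K = b from hxb] at hmul
    rcases h.cases _ (mul_ne_one hx hc) with e | e | e
    · right
      rw [hndef, ← hmul, e, Nat.mul_div_cancel_left _ ha0]
    · left
      rw [e] at hmul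
      exact mul_left_cancel₀ (by have := h.lt; omega : b ≠ 0) (hmul.trans (mul_one b).symm)
    · exact absurd (e ▸ ⟨_, hmul.symm⟩ : c ∣ b) h.c_ndvd_b
  -- a witness for the failure of `Cen`
  obtain ⟨y0, hy0p, hy0⟩ : ∃ y : K, (orderOf y).Coprime p ∧ y ∉ center K := by
    by_contra hno
    refine hn fun y hy hyp v hv => mem_CG.2 ?_
    by_contra hvy
    refine hno ⟨⟨y, hy⟩, by rwa [← Subgroup.orderOf_coe], fun hz => hvy ?_⟩
    exact congrArg Subtype.val (mem_center_iff.1 hz ⟨v, hv⟩)
  have hy0n : (centralizer ({y0} : Set K)).index = n :=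
    (hidx y0 hy0p).resolve_left fun e => hy0 (mem_center_of_index_one e)
  have h2 : Set.ncard (Set.range fun y : {y : K // (orderOf y).Coprime p} =>
      (ConjClasses.mk (y : K)).carrier.ncard) = 2 := by
    rw [Set.ncard_eq_two]
    refine ⟨1, n, hn1.symm, Set.Subset.antisymm ?_ ?_⟩
    · rintro m ⟨y, rfl⟩
      simp only [Cfsg.Agent.S4035.carrier_ncard_eq_index]
      rcases hidx y y.2 with e | e <;> simp [e]
    · rintro m hm
      rcases hm with rfl | rfl
      · refine ⟨⟨1, by simp⟩, ?_⟩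
        simp only [Cfsg.Agent.S4035.carrier_ncard_eq_index]
        rw [Subgroup.index_eq_one]
        exact eq_top_iff.2 fun g _ => mem_centralizer_singleton_iff.2 (by simp)
      · exact ⟨⟨y0, hy0p⟩, by simp only [Cfsg.Agent.S4035.carrier_ncard_eq_index, hy0n]⟩
  obtain ⟨gc, hgc1, hgc⟩ := h.ex_c
  rcases Cfsg.Agent.S4033.result hp h2 with
      ⟨H, hHc, hHp, k, hk⟩ | ⟨q, hqF, P, Q, A, hqp, hAZ, hPQ, hN, hinf, hsup⟩
  · -- an abelian complement: `b / a` is a power of `p`
    exfalso
    obtain ⟨v, hvH, hvn⟩ : ∃ v ∈ H, (centralizer ({v} : Set K)).index = n := by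
      by_contra hno
      have hvp : ∀ v ∈ H, (orderOf v).Coprime p := fun v hv =>
        ((hp.coprime_iff_not_dvd).2 hHp).symm.coprime_dvd_left (orderOf_dvd_natCard H hv)
      have hHZ : H ≤ center K := fun v hv => mem_center_of_index_one
        ((hidx v (hvp v hv)).resolve_right fun e => hno ⟨v, hv, e⟩)
      haveI : H.Normal := ⟨fun v hv g => by rwa [mem_center_iff.1 (hHZ hv) g, mul_inv_cancel_right]⟩
      refine hy0 (hHZ ((QuotientGroup.eq_one_iff y0).1 (orderOf_eq_one_iff.1 ?_)))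
      refine Nat.eq_one_of_dvd_coprimes (hy0p.pow_right k) (orderOf_map_dvd (QuotientGroup.mk' H) y0) ?_
      rw [← hk, Subgroup.index_eq_card]
      exact orderOf_dvd_natCard _
    have hdvd : n ∣ p ^ k := by
      rw [← hk, ← hvn]
      exact Subgroup.index_dvd_of_le fun w hw => mem_centralizer_singleton_iff.2
        (congrArg Subtype.val (hHc.is_comm.comm ⟨w, hw⟩ ⟨v, hvH⟩))
    obtain ⟨r, hr, hrp, hnf⟩ := h.burn gc hgc1 p hp
    rw [hgc] at hnf
    refine hnf (((h.full_cases hr).resolve_right hnf) |> fun hb => ?_)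
    refine dvd_trans (full_of_not_dvd hr h.dvd (fun e => hrp ?_) hb) hac
    exact (Nat.prime_dvd_prime_iff_eq hr hp).1 (hr.dvd_of_dvd_pow (e.trans hdvd))
  · haveI := Fact.mk hp
    have hq : q.Prime := hqF.out
    haveI : A.Normal := ⟨fun v hv g => by rwa [mem_center_iff.1 (hAZ hv) g, mul_inv_cancel_right]⟩
    obtain ⟨i, hi⟩ := IsPGroup.iff_card.mp P.2
    obtain ⟨j, hj⟩ := IsPGroup.iff_card.mp Q.2
    have hAi : A.index ∣ p ^ i * q ^ j := by
      rw [← hi, ← hj, ← hPQ, ← Subgroup.relIndex_top_right, ← hsup, Subgroup.relIndex_sup_right]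
      exact Subgroup.index_dvd_card _
    have hnA : n ∣ A.index := by
      rw [← hy0n]
      exact Subgroup.index_dvd_of_le fun w hw =>
        mem_centralizer_singleton_iff.2 ((mem_center_iff.1 (hAZ hw) y0).symm)
    have hne : ∀ r : ℕ, r.Prime → r ≠ p → r ≠ q → (FullPart G r b → FullPart G r a) ∧
        ∀ w ∈ CG x, PW r w → CG x ≤ CG w := by
      intro r hr hrp hrq
      have hcop : r.Coprime (p ^ i * q ^ j) :=
        Nat.Coprime.mul_right (((Nat.coprime_primes hr hp).2 hrp).pow_right i)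
          (((Nat.coprime_primes hr hq).2 hrq).pow_right j)
      refine ⟨fun hb => full_of_not_dvd hr h.dvd (fun e => hr.ne_one
        (Nat.eq_one_of_dvd_coprimes hcop dvd_rfl ((e.trans hnA).trans hAi))) hb, fun w hw hwr v hv => ?_⟩
      obtain ⟨m, hm⟩ := coe_pw hw hwr
      have hwA : (⟨w, hw⟩ : K) ∈ A := by
        refine (QuotientGroup.eq_one_iff _).1 (orderOf_eq_one_iff.1 ?_)
        refine Nat.eq_one_of_dvd_coprimes (hcop.pow_left m)
          ((orderOf_map_dvd (QuotientGroup.mk' A) _).trans (orderOf_dvd_of_pow_eq_one hm)) ?_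
        refine dvd_trans ?_ hAi
        rw [Subgroup.index_eq_card]
        exact orderOf_dvd_natCard _
      exact mem_CG.2 (congrArg Subtype.val (mem_center_iff.1 (hAZ hwA) ⟨v, hv⟩))
    have hfull : ∀ r : ℕ, r.Prime → r ≠ p → r ≠ q → FullPart G r c := fun r hr hrp hrq => by
      rcases h.full_cases hr with e | e
      · exact ((hne r hr hrp hrq).1 e).trans hac
      · exact e
    obtain ⟨r, hr, hrq, hnf⟩ := h.burn gc hgc1 q hq
    obtain ⟨r', hr', hr'p, hnf'⟩ := h.burn gc hgc1 p hp
    rw [hgc] at hnf hnf'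
    have hrp : r = p := by_contra fun e => hnf (hfull r hr e hrq)
    have hr'q : r' = q := by_contra fun e => hnf' (hfull r' hr' hr'p e)
    rw [hrp] at hnf
    rw [hr'q] at hnf'
    exact ⟨hnf, fun s hs hsc => hne s hs (fun e => hnf (e ▸ hsc)) fun e => hnf' (e ▸ hsc)⟩

/-- Some `p`-element of order `c` fails to have the property `Cen`. -/
theorem Sizes.exists_noncen (h : Sizes G a b c) (hac : a ∣ c) :
    ∃ p : ℕ, p.Prime ∧ ∃ x : G, x ≠ 1 ∧ PW p x ∧ cd x = c ∧ ¬ Cen p x := by
  by_contra hno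
  obtain ⟨X, hX⟩ := h.exists_cc fun p hp x hx hxp hxc =>
    by_contra fun e => hno ⟨p, hp, x, hx, hxp, hxc, e⟩
  obtain ⟨g, hg, hga⟩ := h.ex_a
  obtain ⟨l, hl, hla⟩ := Nat.exists_prime_and_dvd h.one_lt_a.ne'
  haveI := Fact.mk hl
  obtain ⟨w, hw⟩ := exists_prime_orderOf_dvd_card' (G := CG g) l (show l ∣ cd g by rw [hga]; exact hla)
  have hw1 : (w : G) ≠ 1 := fun e => by
    rw [← Subgroup.orderOf_coe, e, orderOf_one] at hw
    exact hl.ne_one hw.symm
  have hwp : PW l (w : G) := ⟨1, by rw [pow_one, ← hw, ← Subgroup.orderOf_coe, pow_orderOf_eq_one]⟩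
  obtain ⟨u, hu⟩ := hX.conj_mem hl (hla.trans hac) hwp
  refine h.a_ne_c (hga ▸ hX.cd_eq_of_mem (g := u) ?_ hg)
  have hu1 : u * (w : G) * u⁻¹ ≠ 1 := fun e => hw1 (conj_eq_one_iff.1 e)
  rw [← hX.cc _ hu hu1, mem_centralizer_singleton_iff]
  exact (Commute.conj (mem_CG.1 (mem_CG_comm.1 w.2)) u).eq

theorem Sizes.full_b_of_dvd (h : Sizes G a b c) (hac : a ∣ c) {l : ℕ} (hl : l.Prime) (hla : l ∣ a) :
    FullPart G l b ∧ (FullPart G l c → FullPart G l a) := by
  obtain ⟨p, hp, x, hx, hxp, hxb, hn⟩ := (h.swap hac).exists_noncen h.dvd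
  obtain ⟨-, hstr⟩ := h.noncen_b hac hp hx hxp hxb hn
  have hb : FullPart G l b := by
    by_contra hnb
    have hlc := (h.full_cases hl).resolve_left hnb
    obtain ⟨-, hcen⟩ := hstr l hl hlc
    haveI := Fact.mk hl
    obtain ⟨w, hw⟩ := exists_prime_orderOf_dvd_card' (G := CG x) l
      (show l ∣ cd x by rw [hxb]; exact hla.trans h.dvd)
    have hw1 : (w : G) ≠ 1 := fun e => by
      rw [← Subgroup.orderOf_coe, e, orderOf_one] at hw
      exact hl.ne_one hw.symm
    have hwp : PW l (w : G) := ⟨1, by rw [pow_one, ← hw, ← Subgroup.orderOf_coe, pow_orderOf_eq_one]⟩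
    have hwx : CG x = CG (w : G) := h.eq_of_top hx hw1 (hcen _ w.2 hwp) (Or.inl hxb)
    refine (h.noncen_b hac hl hw1 hwp (by rw [cd, ← hwx]; exact hxb) fun hC => hn ?_).1 hlc
    intro y hy _ v hv
    refine mem_CG.2 ?_
    refine (mem_CG.1 (TwoSizes.mem_of_parts (H := CG v) fun t ht _ i hi => ?_)).symm
    refine mem_CG_comm.1 ?_
    by_cases htl : t = l
    · exact hcen _ (pow_mem hy i) (htl ▸ hi) hv
    · exact hC _ (hwx ▸ pow_mem hy i) (hi.reg ht hl htl) (hwx ▸ hv)
  exact ⟨hb, fun hc => (hstr l hl hc).1 hb⟩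

/-- The smallest order cannot divide both of the others. -/
theorem Sizes.not_dvd (h : Sizes G a b c) (hZ : center G = ⊥) : ¬ a ∣ c := by
  intro hac
  obtain ⟨l, hl, hla⟩ := Nat.exists_prime_and_dvd h.one_lt_a.ne'
  have hfc : FullPart G l c := ((h.swap hac).full_b_of_dvd h.dvd hl hla).1
  have hfa := (h.full_b_of_dvd hac hl hla).2 hfc
  haveI := Fact.mk hl
  obtain ⟨P⟩ : Nonempty (Sylow l G) := inferInstance
  have hcov : ∀ g : G, ∃ u : G, u * g * u⁻¹ ∈ centralizer ((P : Subgroup G) : Set G) := by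
    intro g
    rcases eq_or_ne g 1 with rfl | hg
    · exact ⟨1, by simp⟩
    have hf : FullPart G l (cd g) := by
      rcases h.cases g hg with e | e | e <;> rw [e]
      exacts [hfa, hfa.trans h.dvd, hfc]
    obtain ⟨S⟩ : Nonempty (Sylow l (CG g)) := inferInstance
    let S' : Sylow l G := (S.2.map (CG g).subtype).toSylow (by
      rw [index_map_subtype]
      exact hl.not_dvd_mul S.not_dvd_index ((fullPart_index hl).1 hf))
    obtain ⟨u, hu⟩ := MulAction.exists_smul_eq G S' P
    refine ⟨u, mem_centralizer_iff.2 fun v hv => ?_⟩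
    rw [SetLike.mem_coe, ← hu, Sylow.coe_subgroup_smul] at hv
    obtain ⟨s, hs, rfl⟩ := hv
    have hsg : s ∈ CG g := Subgroup.map_subtype_le _ hs
    exact (Commute.conj (mem_CG.1 hsg) u).eq
  have htop := Cfsg.Lib.PGroup.eq_top_of_forall_exists_conj_mem hcov
  have hPZ : (P : Subgroup G) ≤ center G := fun v hv =>
    mem_center_iff.2 fun g => ((mem_centralizer_iff.1 (htop ▸ mem_top g)) v hv).symm
  rw [hZ, le_bot_iff] at hPZ
  obtain ⟨g, -, hga⟩ := h.ex_a
  have hd := P.dvd_card_of_dvd_card ((hga ▸ hla : l ∣ cd g).trans (cd_dvd g))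
  rw [hPZ, Subgroup.card_bot] at hd
  exact hl.not_dvd_one hd

end Cfsg.Lib.RankThree
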