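import Cfsg.Agent.Lib.RankThree.CaseTwo
import Cfsg.Agent.Lib.RankThree.CaseOne
import Cfsg.Agent.Lib.RankThree.CNCase
import Cfsg.Agent.Lib.Char.Burnside
import Cfsg.Agent.Lib.Dickson.Maximal.Basic
import Cfsg.Agent.S2507

/-!
# Simple groups with three non-central class sizes
-/

set_option autoImplicit false
set_option linter.style.haveILetI false
set_option linter.unusedSectionVars false

namespace Cfsg.Lib.RankThree

open Subgroup
open Cfsg.Lib.TwoSizes (PW)

universe u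

variable {G : Type u} [Group G] [Finite G] [IsSimpleGroup G]

theorem eq_of_full_all {n : ℕ} (hn : n ∣ Nat.card G) (h : ∀ p : ℕ, p.Prime → FullPart G p n) :
    n = Nat.card G := by
  have hn0 : n ≠ 0 := fun e => Nat.card_pos.ne' (zero_dvd_iff.1 (e ▸ hn) : Nat.card G = 0)
  refine Nat.dvd_antisymm hn ?_
  rw [← Nat.factorization_le_iff_dvd Nat.card_pos.ne' hn0]
  intro p
  by_cases hp : p.Prime
  · exact (hp.pow_dvd_iff_le_factorization hn0).1 (h p hp)
  · simp [Nat.factorization_eq_zero_of_not_prime _ hp]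

theorem cd_ne_card (hnc : ¬ IsMulCommutative G) {g : G} (hg : g ≠ 1) : cd g ≠ Nat.card G := fun e => by
  have h1 : CG g = ⊤ := Subgroup.eq_top_of_card_eq _ e
  have h2 : g ∈ center G :=
    mem_center_iff.2 fun v => (mem_CG.1 (show v ∈ CG g by rw [h1]; exact mem_top v)).eq
  rw [center_eq_bot' hnc, mem_bot] at h2
  exact hg h2

theorem burn_of_simple (hnc : ¬ IsMulCommutative G) {g : G} (hg : g ≠ 1) {p : ℕ} (hp : p.Prime) :
    ∃ q : ℕ, q.Prime ∧ q ≠ p ∧ ¬ FullPart G q (cd g) := by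
  haveI : Fintype G := Fintype.ofFinite G
  by_contra hno
  obtain ⟨k, hk⟩ : ∃ k, (CG g).index = p ^ k := by
    refine ⟨_, Nat.eq_prime_pow_of_unique_prime_dvd Subgroup.index_ne_zero_of_finite fun {d} hd hdv => ?_⟩
    by_contra hdp
    exact hno ⟨d, hd, hdp, fun hf => (fullPart_index hd).1 hf hdv⟩
  have hP := Char.prime_card_of_class_prime_pow hp hg (k := k) (by rw [Char.card_classFinset]; exact hk)
  haveI := Fact.mk hP
  haveI : IsCyclic G := isCyclic_of_prime_card rfl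
  exact hnc IsCyclic.isMulCommutative

theorem psl_of_abelian_invol (hnc : ¬ IsMulCommutative G)
    (hab : ∀ t : G, orderOf t = 2 → IsMulCommutative ↥(centralizer ({t} : Set G))) :
    ∃ (m : ℕ) (F : Type) (_ : Field F) (_ : Fintype F), 2 ≤ m ∧ Fintype.card F = 2 ^ m ∧
      Nonempty (G ≃* Matrix.ProjectiveSpecialLinearGroup (Fin 2) F) := by
  have hns := GW.not_isSolvable_of_simple hnc
  obtain hc | hn | ⟨F, i, j, A, iA, jA, hF, -, ⟨e⟩⟩ := Cfsg.Agent.S2202.result (CompOrd.even_card hnc) hab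
  · obtain ⟨S⟩ : Nonempty (Sylow 2 G) := inferInstance
    exact absurd (hc S) (GW.not_isCyclic_sylow hns S)
  · exfalso
    haveI : Fact (Nat.Prime 2) := ⟨Nat.prime_two⟩
    obtain ⟨S⟩ : Nonempty (Sylow 2 G) := inferInstance
    rcases (hn S).eq_bot_or_eq_top with h1 | h1
    · exact GW.not_isCyclic_sylow hns S (by rw [h1]; infer_instance)
    · have hp : IsPGroup 2 G := (h1 ▸ S.2 : IsPGroup 2 (⊤ : Subgroup G)).of_equiv topEquiv
      haveI := hp.isNilpotent
      exact hns inferInstance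
  haveI := hF
  let f : G →* Matrix.SpecialLinearGroup (Fin 2) F := (MonoidHom.fst _ A).comp e.toMonoidHom
  have hfs : Function.Surjective f := fun x => ⟨e.symm (x, 1), by simp [f]⟩
  have hfi : Function.Injective f := by
    rcases f.normal_ker.eq_bot_or_eq_top with h1 | h1
    · exact (MonoidHom.ker_eq_bot_iff f).1 h1
    · exfalso
      haveI : Nontrivial (Matrix.SpecialLinearGroup (Fin 2) F) := by
        rw [← Finite.one_lt_card_iff_nontrivial, Cfsg.Lib.Linear.Two.card_SL_two]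
        have := Fintype.one_lt_card (α := F)
        have h2 : 4 ≤ Fintype.card F ^ 2 := Nat.pow_le_pow_left (show 2 ≤ _ by omega) 2
        calc 1 < 2 * 3 := by norm_num
          _ ≤ _ := Nat.mul_le_mul (by omega) (by omega)
      obtain ⟨x, hx⟩ := exists_ne (1 : Matrix.SpecialLinearGroup (Fin 2) F)
      obtain ⟨g, rfl⟩ := hfs x
      exact hx (MonoidHom.mem_ker.1 (h1 ▸ mem_top g))
  let e' := (MulEquiv.ofBijective f ⟨hfi, hfs⟩).trans Cfsg.Lib.Spec.pslEquivOfCharTwo.symm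
  obtain ⟨n, -, hn⟩ := FiniteField.card F 2
  have h4 := CIT.four_le_of_iso hnc e'
  refine ⟨n, F, i, j, ?_, hn, ⟨e'⟩⟩
  rw [hn] at h4
  by_contra hlt
  have : (2 : ℕ) ^ (n : ℕ) ≤ 2 ^ 1 := Nat.pow_le_pow_right two_pos (by omega)
  omega

/-- Three centralizer orders: the centralizers of involutions are abelian. -/
theorem abelian_invol_of_three (hnc : ¬ IsMulCommutative G)
    (h3 : {n : ℕ | ∃ g : G, g ≠ 1 ∧ cd g = n}.ncard = 3) :
    ∀ t : G, orderOf t = 2 → IsMulCommutative ↥(centralizer ({t} : Set G)) := by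
  classical
  by_cases hall : ∀ p : ℕ, p.Prime → ∀ x : G, x ≠ 1 → PW p x → Cen p x
  · exact abelian_invol_of_cn hnc (isCNGroup_of_cen hall) h3
  obtain ⟨p, hp, x, hx, hxp, y, hy, hyp, hn⟩ :
      ∃ p : ℕ, p.Prime ∧ ∃ x : G, x ≠ 1 ∧ PW p x ∧ ∃ y ∈ CG x, (orderOf y).Coprime p ∧ ¬ CG x ≤ CG y := by
    by_contra hno
    refine hall fun p hp x hx hxp y hy hyp => by_contra fun hn => hno ⟨p, hp, x, hx, hxp, y, hy, hyp, hn⟩
  obtain ⟨k, hk⟩ := hxp
  have hxy : Commute x y := (mem_CG.1 hy).symm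
  have hc : (orderOf x).Coprime (orderOf y) :=
    (Nat.Coprime.pow_left k hyp.symm).coprime_dvd_left (orderOf_dvd_of_pow_eq_one hk)
  have hlt : CG (x * y) < CG x := by
    rw [CG_mul hxy hc]
    exact inf_le_left.lt_of_ne fun e => hn (inf_eq_left.1 e)
  have hxy1 := mul_ne_one hx hc
  have hdvd : cd (x * y) ∣ cd x := card_dvd_of_le hlt.le
  have hab : cd (x * y) < cd x := lt_of_le_of_ne (Nat.le_of_dvd (cd_pos x) hdvd) fun e =>
    hlt.ne (Subgroup.eq_of_le_of_card_ge hlt.le (le_of_eq e.symm))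
  obtain ⟨u, v, w, huv, huw, hvw, hset⟩ := Set.ncard_eq_three.1 h3
  have hm1 : cd (x * y) ∈ ({u, v, w} : Set ℕ) := hset ▸ ⟨_, hxy1, rfl⟩
  have hm2 : cd x ∈ ({u, v, w} : Set ℕ) := hset ▸ ⟨_, hx, rfl⟩
  obtain ⟨c, hca, hcb, hc3⟩ : ∃ c, c ≠ cd (x * y) ∧ c ≠ cd x ∧ c ∈ ({u, v, w} : Set ℕ) := by
    by_contra hno
    have hu : u = cd (x * y) ∨ u = cd x := by_contra fun h => hno ⟨u, (not_or.1 h).1, (not_or.1 h).2, by simp⟩
    have hv : v = cd (x * y) ∨ v = cd x := by_contra fun h => hno ⟨v, (not_or.1 h).1, (not_or.1 h).2, by simp⟩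
    have hw : w = cd (x * y) ∨ w = cd x := by_contra fun h => hno ⟨w, (not_or.1 h).1, (not_or.1 h).2, by simp⟩
    omega
  have hcases : ∀ g : G, g ≠ 1 → cd g = cd (x * y) ∨ cd g = cd x ∨ cd g = c := by
    intro g hg
    have hm : cd g ∈ ({u, v, w} : Set ℕ) := hset ▸ ⟨_, hg, rfl⟩
    simp only [Set.mem_insert_iff, Set.mem_singleton_iff] at hm hm1 hm2 hc3
    omega
  obtain ⟨gc, hgc1, hgc⟩ : ∃ g : G, g ≠ 1 ∧ cd g = c := by
    rw [← hset] at hc3
    exact hc3
  have hall' : ∀ n : ℕ, n ∣ Nat.card G → cd (x * y) ∣ n → cd x ∣ n → c ∣ n → n = Nat.card G := by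
    intro n hn h1 h2 h3'
    refine eq_of_full_all hn fun q hq => ?_
    by_cases hd : q ∣ Nat.card G
    · obtain ⟨z, hz, -, hf⟩ := exists_central_full hq hd
      rcases hcases z hz with e | e | e <;> rw [e] at hf
      exacts [dvd_trans hf h1, dvd_trans hf h2, dvd_trans hf h3']
    · exact fullPart_of_not_dvd hd
  have hcnb : ¬ c ∣ cd x := fun e => cd_ne_card hnc hx (hall' _ (cd_dvd x) hdvd dvd_rfl e)
  have hS : Sizes G (cd (x * y)) (cd x) c :=
    { cases := hcases
      burn := fun g hg q hq => burn_of_simple hnc hg hq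
      dvd := hdvd
      lt := hab
      c_ndvd_b := hcnb
      b_ndvd_c := fun e =>
        cd_ne_card hnc hgc1 (hgc.trans (hall' _ (hgc ▸ cd_dvd gc) (hdvd.trans e) e dvd_rfl))
      c_ndvd_a := fun e => hcnb (e.trans hdvd)
      ex_a := ⟨_, hxy1, rfl⟩
      ex_b := ⟨_, hx, rfl⟩
      ex_c := ⟨gc, hgc1, hgc⟩ }
  exact hS.abelian_invol hnc (hS.not_dvd (center_eq_bot' hnc))

/-- The indices of the centralizers and their orders have the same number of values. -/
theorem ncard_index_eq (hnc : ¬ IsMulCommutative G) :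
    {m : ℕ | ∃ x : G, x ∉ center G ∧ m = (centralizer ({x} : Set G)).index}.ncard =
      {n : ℕ | ∃ g : G, g ≠ 1 ∧ cd g = n}.ncard := by
  have he : {m : ℕ | ∃ x : G, x ∉ center G ∧ m = (centralizer ({x} : Set G)).index} =
      (fun n => Nat.card G / n) '' {n : ℕ | ∃ g : G, g ≠ 1 ∧ cd g = n} := by
    have hi : ∀ g : G, Nat.card G / cd g = (CG g).index := fun g => by
      rw [← (CG g).card_mul_index, Nat.mul_div_cancel_left _ (cd_pos g)]
    rw [center_eq_bot' hnc]
    ext m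
    simp only [Set.mem_setOf_eq, mem_bot, Set.mem_image]
    constructor
    · rintro ⟨x, hx, rfl⟩
      exact ⟨cd x, ⟨x, hx, rfl⟩, hi x⟩
    · rintro ⟨_, ⟨g, hg, rfl⟩, rfl⟩
      exact ⟨g, hg, hi g⟩
  rw [he]
  refine Set.InjOn.ncard_image ?_
  rintro n ⟨g, -, rfl⟩ m ⟨k, -, rfl⟩ e
  rw [← Nat.div_div_self (cd_dvd g) Nat.card_pos.ne', ← Nat.div_div_self (cd_dvd k) Nat.card_pos.ne']
  exact congrArg (Nat.card G / ·) e

omit [Finite G] [IsSimpleGroup G] in
theorem index_centralizer_map {H : Type*} [Group H] (e : G ≃* H) (x : G) :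
    (centralizer ({e x} : Set H)).index = (centralizer ({x} : Set G)).index := by
  have h : centralizer ({x} : Set G) = (centralizer ({e x} : Set H)).comap e.toMonoidHom := by
    ext g
    simp only [mem_comap, mem_centralizer_singleton_iff, MulEquiv.coe_toMonoidHom, ← map_mul,
      e.injective.eq_iff]
  rw [h, Subgroup.index_comap_of_surjective _ e.surjective]

end Cfsg.Lib.RankThree

namespace Cfsg.Lib.RankThree

open Subgroup

theorem three_sizes_psl {G : Type*} [Group G] {F : Type} [Field F] [Fintype F] (h2 : 2 ∣ Fintype.card F)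
    (h4 : 4 ≤ Fintype.card F) (e : G ≃* Matrix.ProjectiveSpecialLinearGroup (Fin 2) F) :
    IsSimpleGroup G ∧ ¬ IsMulCommutative G ∧
      {m : ℕ | ∃ x : G, x ∉ center G ∧ m = (centralizer ({x} : Set G)).index}.ncard = 3 := by
  haveI := Dickson.isSimpleGroup_psl_two h4
  have hR := Cfsg.Agent.S2507.result h2 h4
  set q := Fintype.card F
  have hq2 : q * (q - 1) + q = q ^ 2 := by
    rw [sq, ← Nat.mul_succ]; congr 1; omega
  have hq3 : q * (q + 1) = q ^ 2 + q := by ring
  have hq4 : 16 ≤ q ^ 2 := Nat.pow_le_pow_left h4 2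
  have hqq : q * 2 ≤ q ^ 2 := by rw [sq]; exact Nat.mul_le_mul_left q (by omega)
  have hcen : ∀ x : G, x ∉ center G ↔ (centralizer ({x} : Set G)).index ≠ 1 := by
    intro x
    rw [Ne, not_iff_not, Subgroup.index_eq_one, eq_top_iff, mem_center_iff]
    exact ⟨fun h g _ => mem_centralizer_singleton_iff.2 (h g),
      fun h g => mem_centralizer_singleton_iff.1 (h (mem_top g))⟩
  have hset : {m : ℕ | ∃ x : G, x ∉ center G ∧ m = (centralizer ({x} : Set G)).index} =
      {q * (q - 1), q ^ 2 - 1, q * (q + 1)} := by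
    ext m
    simp only [Set.mem_setOf_eq, hcen]
    constructor
    · rintro ⟨x, hx, rfl⟩
      have hm : (centralizer ({e x} : Set _)).index ∈ Set.range
        fun g : Matrix.ProjectiveSpecialLinearGroup (Fin 2) F => (centralizer ({g} : Set _)).index := ⟨e x, rfl⟩
      rw [hR] at hm
      rw [index_centralizer_map e x] at hm
      simpa [hx] using hm
    · intro hm
      have hm' : m ∈ ({1, q * (q - 1), q ^ 2 - 1, q * (q + 1)} : Set ℕ) := Or.inr hm
      rw [← hR] at hm'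
      obtain ⟨g, rfl⟩ := hm'
      obtain ⟨x, rfl⟩ := e.surjective g
      simp only [index_centralizer_map e x] at hm ⊢
      refine ⟨x, fun h1 => ?_, rfl⟩
      simp only [h1, Set.mem_insert_iff, Set.mem_singleton_iff] at hm
      omega
  refine ⟨e.isSimpleGroup, fun hcm => ?_, ?_⟩
  · have hm : q ^ 2 - 1 ∈ {m : ℕ | ∃ x : G, x ∉ center G ∧ m = (centralizer ({x} : Set G)).index} := by
      rw [hset]; simp
    obtain ⟨x, hx, -⟩ := hm
    exact hx (mem_center_iff.2 fun g => hcm.is_comm.comm g x)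
  · rw [hset, Set.ncard_eq_three]
    refine ⟨_, _, _, ?_, ?_, ?_, rfl⟩ <;> omega

end Cfsg.Lib.RankThree
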